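/-
Overgroups of the unipotent part of a split Borel subgroup are normalised by the torus.
-/
import Cfsg.Agent.Lib.BorelTitsOver.BN

set_option autoImplicit false

namespace Cfsg.Agent.OddPro.BNOver

open Cfsg.Agent.BN Cfsg.Agent.BTOver

variable {G : Type*} [Group G] {P : Cfsg.BNPair G} {U : Subgroup G}

theorem conj_not_le (hU : Split P U) {s : P.S} {c : G} (hc : c ∈ P.N) (hcs : wmk P c hc = σ P s) :
    ¬ ∀ u ∈ U, c * u * c⁻¹ ∈ P.B := by
  intro h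
  have hcB : ∀ b ∈ P.B, c * b * c⁻¹ ∈ P.B := by
    intro b hb
    obtain ⟨u, hu, t, ht, rfl⟩ := hU.decomp b hb
    rw [show c * (u * t) * c⁻¹ = (c * u * c⁻¹) * (c * t * c⁻¹) by group]
    exact mul_mem (h u hu) (P.conj_mem c hc t ht)
  have hb0 : c⁻¹ * (s : G) ∈ P.B := (wmk_eq_iff P hc (P.subset s.2)).1 hcs
  obtain ⟨b, hb, hbs⟩ := exists_sq_mem P s
  have hmem : (s : G) * b * s ∈ P.B := by
    have e : (s : G) * b * s = (c * ((c⁻¹ * s) * b * (c⁻¹ * s)⁻¹) * c⁻¹) * ((s : G) * s) := by group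
    rw [e]
    exact mul_mem (hcB _ (mul_mem (mul_mem hb0 hb) (inv_mem hb0))) (P.sq_mem s s.2)
  rw [← SetLike.mem_coe, ← cell_one P] at hmem
  exact σ_ne_one P s (eq_of_mem_cell P hbs hmem)

/-- The torus conjugates a letter of `M` into `M`. -/
theorem conj_letter (hU : Split P U)
    (hT : ∀ a ∈ P.B ⊓ P.N, ∀ b ∈ P.B ⊓ P.N, a * b = b * a) {M : Subgroup G} (hM : U ≤ M)
    {t : G} (ht : t ∈ P.B ⊓ P.N) {s : P.S} {c : G} (hc : c ∈ P.N) (hcM : c ∈ M)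
    (hcs : wmk P c hc = σ P s) : t * c * t⁻¹ ∈ M := by
  set X := U ⊔ U.map (MulAut.conj c).toMonoidHom with hX
  have hXM : X ≤ M := sup_le hM (by
    rintro _ ⟨u, hu, rfl⟩; exact mul_mem (mul_mem hcM (hM hu)) (inv_mem hcM))
  have hXt : ∀ x ∈ X, t * x * t⁻¹ ∈ X := by
    have : X ≤ X.comap (MulAut.conj t).toMonoidHom := by
      refine sup_le (fun u hu => Subgroup.mem_sup_left (hU.conj t ht.1 u hu)) ?_
      rintro _ ⟨u, hu, rfl⟩
      refine Subgroup.mem_sup_right ⟨(c⁻¹ * t * c) * u * (c⁻¹ * t * c)⁻¹, hU.conj _ ?_ u hu, by simp [mul_assoc]⟩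
      simpa using P.conj_mem c⁻¹ (inv_mem hc) t ht
    exact this
  obtain ⟨u, hu, hx⟩ : ∃ u ∈ U, c * u * c⁻¹ ∉ P.B := by
    by_contra hcon
    exact conj_not_le hU hc hcs fun u hu => by_contra fun h => hcon ⟨u, hu, h⟩
  have hxX : c * u * c⁻¹ ∈ X := Subgroup.mem_sup_right ⟨u, hu, rfl⟩
  have hcP : c ∈ P.parabolic {(s : G)} :=
    mem_of_wmk_eq P (B_le_parabolic P _) (ha := P.subset s.2) (hb := hc) hcs.symm (subset_parabolic P _ rfl)
  obtain ⟨m, -, hm, hmJ, hmx⟩ := parabolic_mem_cell P (J := {(s : G)}) (Set.singleton_subset_iff.2 s.2)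
    (mul_mem (mul_mem hcP (B_le_parabolic P _ (hU.le hu))) (inv_mem hcP))
  have hw : wmk P m hm = σ P s := by
    have hle : wJ P ({(s : G)} : Set G) ≤ Subgroup.zpowers (σ P s) := by
      refine (Subgroup.closure_le _).2 ?_
      rintro w ⟨s', hs', rfl⟩
      rw [Subtype.ext (Set.mem_singleton_iff.1 hs')]
      exact Subgroup.mem_zpowers _
    obtain ⟨k, hk⟩ := hle hmJ
    simp only at hk
    rw [← cell_mk P hm] at hmx
    rcases Int.even_or_odd' k with ⟨j, rfl | rfl⟩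
    · exfalso
      rw [← hk, _root_.zpow_mul, show σ P s ^ (2 : ℤ) = 1 by rw [_root_.zpow_two, σ_mul_self], _root_.one_zpow,
        cell_one] at hmx
      exact hx hmx
    · rw [← hk, zpow_add, _root_.zpow_mul, show σ P s ^ (2 : ℤ) = 1 by rw [_root_.zpow_two, σ_mul_self],
        _root_.one_zpow, one_mul, zpow_one]
  obtain ⟨n, hn, hnX, hns⟩ := hU.exists_rep (M := X) (le_sup_left) hxX (w := σ P s)
    (by rw [← hw, cell_mk]; exact hmx)
  have ht0 : n⁻¹ * c ∈ P.B ⊓ P.N :=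
    ⟨(wmk_eq_iff P hn hc).1 (hns.trans hcs.symm), P.N.mul_mem (P.N.inv_mem hn) hc⟩
  have hfix : t * (n⁻¹ * c) * t⁻¹ = n⁻¹ * c := by rw [hT t ht _ ht0, mul_inv_cancel_right]
  rw [show t * c * t⁻¹ = (t * n * t⁻¹) * (t * (n⁻¹ * c) * t⁻¹) by group, hfix]
  exact mul_mem (hXM (hXt n hnX)) (mul_mem (inv_mem (hXM hnX)) hcM)

theorem conj_monomial (hU : Split P U)
    (hT : ∀ a ∈ P.B ⊓ P.N, ∀ b ∈ P.B ⊓ P.N, a * b = b * a) {M : Subgroup G} (hM : U ≤ M)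
    {t : G} (ht : t ∈ P.B ⊓ P.N) :
    ∀ k {n : G} (hn : n ∈ P.N), n ∈ M → len P (wmk P n hn) = k → t * n * t⁻¹ ∈ M := by
  intro k
  induction k using Nat.strong_induction_on with
  | _ k IH =>
    intro n hn hnM hk
    obtain ⟨l, hl, hle⟩ := exists_reduced P (wmk P n hn)
    cases l with
    | nil =>
      have hB : n ∈ P.B ⊓ P.N := ⟨(wmk_eq_one_iff P hn).1 hle.symm, hn⟩
      rwa [hT t ht n hB, mul_inv_cancel_right]
    | cons s l =>
      simp only [List.length_cons] at hl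
      rw [wp_cons] at hle
      have hlt : len P (σ P s * wmk P n hn) < len P (wmk P n hn) := by
        have := len_wp_le P l
        rw [← hle, σ_cancel, hle]; omega
      obtain ⟨c, hc, hcM, hcs⟩ := hU.letter hM hn hnM hlt
      have hcn : c⁻¹ * n ∈ P.N := P.N.mul_mem (P.N.inv_mem hc) hn
      have hw : wmk P (c⁻¹ * n) hcn = σ P s * wmk P n hn := by
        rw [wmk_mul P (P.N.inv_mem hc) hn, wmk_inv P hc, hcs, σ_inv]
      have h1 := IH _ (hk ▸ hlt) hcn (M.mul_mem (M.inv_mem hcM) hnM) (by rw [hw])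
      have h2 := conj_letter hU hT hM ht hc hcM hcs
      simpa [mul_assoc] using M.mul_mem h2 h1

/-- An overgroup of `U` is normalised by the Borel subgroup. -/
theorem borel_le_normalizer (hU : Split P U)
    (hT : ∀ a ∈ P.B ⊓ P.N, ∀ b ∈ P.B ⊓ P.N, a * b = b * a) {M : Subgroup G} (hM : U ≤ M) :
    P.B ≤ Subgroup.normalizer (M : Set G) := by
  have key : ∀ t ∈ P.B ⊓ P.N, ∀ m ∈ M, t * m * t⁻¹ ∈ M := by
    intro t ht m hm
    obtain ⟨w, hw⟩ := bruhat P m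
    obtain ⟨n, hn, rfl⟩ := BN.exists_rep P w
    rw [cell_mk] at hw
    obtain ⟨b₁, hb₁, b₂, hb₂, rfl⟩ := DoubleCoset.mem_doubleCoset.1 hw
    obtain ⟨u₁, hu₁, t₁, ht₁, rfl⟩ := hU.decomp b₁ hb₁
    obtain ⟨t₂, ht₂, u₂, hu₂, rfl⟩ := hU.decomp' hb₂
    have hn' : t₁ * n * t₂ ∈ P.N := mul_mem (mul_mem ht₁.2 hn) ht₂.2
    have hnM : t₁ * n * t₂ ∈ M := by
      have : t₁ * n * t₂ = u₁⁻¹ * (u₁ * t₁ * n * (t₂ * u₂)) * u₂⁻¹ := by group
      rw [this]
      exact mul_mem (mul_mem (inv_mem (hM hu₁)) hm) (inv_mem (hM hu₂))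
    have h := conj_monomial hU hT hM ht _ hn' hnM rfl
    rw [show t * (u₁ * t₁ * n * (t₂ * u₂)) * t⁻¹ =
      (t * u₁ * t⁻¹) * (t * (t₁ * n * t₂) * t⁻¹) * (t * u₂ * t⁻¹) by group]
    exact mul_mem (mul_mem (hM (hU.conj t ht.1 u₁ hu₁)) h) (hM (hU.conj t ht.1 u₂ hu₂))
  intro b hb
  obtain ⟨u, hu, t, ht, rfl⟩ := hU.decomp b hb
  refine mul_mem (Subgroup.le_normalizer (hM hu)) (Subgroup.mem_normalizer_iff.2 fun m => ⟨key t ht m, fun h => ?_⟩)
  simpa [mul_assoc] using key t⁻¹ (inv_mem ht) _ h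

end Cfsg.Agent.OddPro.BNOver
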