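/-
Subgroups of odd index: pronormality from the normaliser of one Sylow 2-subgroup; central quotients.
-/
import Cfsg.Agent.S3820
import Cfsg.Agent.S2222

set_option autoImplicit false

namespace Cfsg.Agent.OddPro

variable {G : Type*} [Group G]

theorem map_conj_eq_of_mem_normalizer {H : Subgroup G} {g : G}
    (h : g ∈ Subgroup.normalizer (H : Set G)) : H.map (MulAut.conj g).toMonoidHom = H :=
  Subgroup.mem_normalizer_iff_map_conj_eq.1 h

theorem map_conj_map_conj (H : Subgroup G) (a b : G) :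
    (H.map (MulAut.conj a).toMonoidHom).map (MulAut.conj b).toMonoidHom =
      H.map (MulAut.conj (b * a)).toMonoidHom := by
  rw [Subgroup.map_map]
  congr 1
  ext y
  simp [mul_assoc]

theorem mem_map_conj {H : Subgroup G} {a y : G} :
    y ∈ H.map (MulAut.conj a).toMonoidHom ↔ a⁻¹ * y * a ∈ H := by
  constructor
  · rintro ⟨x, hx, rfl⟩
    simpa [mul_assoc] using hx
  · intro h
    exact ⟨_, h, by simp [mul_assoc]⟩

theorem mem_normalizer_of_map {H : Subgroup G} {a g : G}
    (h : a⁻¹ * g * a ∈ Subgroup.normalizer ((H.map (MulAut.conj a⁻¹).toMonoidHom : Subgroup G) : Set G)) :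
    g ∈ Subgroup.normalizer (H : Set G) := by
  rw [Subgroup.mem_normalizer_iff] at h ⊢
  intro y
  have h1 := h (a⁻¹ * y * a)
  simp only [mem_map_conj, inv_inv] at h1
  simpa [mul_assoc] using h1

/-- A subgroup of odd index contains a Sylow 2-subgroup. -/
theorem exists_sylow_le [Finite G] {H : Subgroup G} (hH : Odd H.index) :
    ∃ S : Sylow 2 G, (S : Subgroup G) ≤ H := by
  have : Fact (Nat.Prime 2) := ⟨Nat.prime_two⟩
  obtain ⟨S0⟩ : Nonempty (Sylow 2 H) := inferInstance
  have hp : IsPGroup 2 ↥((S0 : Subgroup H).map H.subtype) := S0.isPGroup'.map H.subtype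
  have hi : ¬ 2 ∣ ((S0 : Subgroup H).map H.subtype).index := by
    rw [Subgroup.index_map_subtype]
    intro hd
    rcases Nat.prime_two.dvd_mul.mp hd with e | e
    · exact S0.not_dvd_index e
    · exact Nat.not_even_iff_odd.mpr hH (even_iff_two_dvd.mpr e)
  exact ⟨hp.toSylow hi, Subgroup.map_subtype_le _⟩

/-- The criterion for all subgroups of odd index. -/
theorem pronormal_of_normalizer' [Finite G] (S0 : Sylow 2 G)
    (h : ∀ H : Subgroup G, (S0 : Subgroup G) ≤ H → ∀ g ∈ Subgroup.normalizer ((S0 : Subgroup G) : Set G),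
      g ∈ Subgroup.normalizer (H : Set G) ∨ g ∈ H ⊔ H.map (MulAut.conj g).toMonoidHom)
    {H : Subgroup G} (hH : Odd H.index) : Cfsg.IsPronormal H := by
  have : Fact (Nat.Prime 2) := ⟨Nat.prime_two⟩
  obtain ⟨S, hS⟩ := exists_sylow_le hH
  rw [Agent.S3820.result _ H hS (Agent.S2222.sylow_pronormal S)]
  intro g hg
  obtain ⟨a, ha⟩ := MulAction.exists_smul_eq G S0 S
  have hS0 : (S : Subgroup G) = (S0 : Subgroup G).map (MulAut.conj a).toMonoidHom := by
    rw [← ha]; rfl
  have hle : (S0 : Subgroup G) ≤ H.map (MulAut.conj a⁻¹).toMonoidHom := fun x hx => by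
    rw [mem_map_conj, inv_inv]
    exact hS (hS0 ▸ ⟨x, hx, rfl⟩)
  have hg0 : a⁻¹ * g * a ∈ Subgroup.normalizer ((S0 : Subgroup G) : Set G) := by
    rw [Subgroup.mem_normalizer_iff] at hg ⊢
    intro y
    have h1 := hg (a * y * a⁻¹)
    rw [hS0] at h1
    simp only [mem_map_conj] at h1
    simpa [mul_assoc] using h1
  rcases h _ hle _ hg0 with hn | hm
  · exact ⟨1, one_mem _, by rw [map_conj_eq_of_mem_normalizer (mem_normalizer_of_map hn),
      map_conj_eq_of_mem_normalizer (Subgroup.one_mem _)]⟩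
  · refine ⟨g, ?_, rfl⟩
    rw [map_conj_map_conj, show a⁻¹ * g * a * a⁻¹ = a⁻¹ * g by group, ← map_conj_map_conj H g a⁻¹,
      ← Subgroup.map_sup, mem_map_conj] at hm
    simpa [mul_assoc] using hm

/-- The criterion when the normaliser of the Sylow subgroup normalises the overgroups. -/
theorem pronormal_of_normalizer [Finite G] (S0 : Sylow 2 G)
    (h : ∀ H : Subgroup G, (S0 : Subgroup G) ≤ H →
      Subgroup.normalizer ((S0 : Subgroup G) : Set G) ≤ Subgroup.normalizer (H : Set G))
    {H : Subgroup G} (hH : Odd H.index) : Cfsg.IsPronormal H :=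
  pronormal_of_normalizer' S0 (fun H hle g hg => Or.inl (h H hle hg)) hH

/-- The normaliser of a Sylow subgroup is a central extension of it when odd elements are central. -/
theorem normalizer_le_sup [Finite G] (S : Sylow 2 G) (Z : Subgroup G)
    (h : ∀ g ∈ Subgroup.normalizer ((S : Subgroup G) : Set G), Odd (orderOf g) → g ∈ Z) :
    Subgroup.normalizer ((S : Subgroup G) : Set G) ≤ (S : Subgroup G) ⊔ Z := by
  have : Fact (Nat.Prime 2) := ⟨Nat.prime_two⟩
  intro g hg
  obtain ⟨a, m, hm, ho⟩ := Nat.exists_eq_two_pow_mul_odd (orderOf_pos g).ne'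
  have h2 : g ^ m ∈ (S : Subgroup G) := by
    have hp : IsPGroup 2 (Subgroup.zpowers (g ^ m)) := by
      refine IsPGroup.of_card (n := a) ?_
      rw [Nat.card_zpowers, orderOf_pow, ho, Nat.gcd_mul_left_left,
        Nat.mul_div_cancel _ hm.pos]
    have := IsPGroup.to_sup_of_normal_right' hp S.isPGroup'
      (Subgroup.zpowers_le.2 (pow_mem hg m))
    have e := S.is_maximal' this le_sup_right
    exact e ▸ Subgroup.mem_sup_left (Subgroup.mem_zpowers _)
  have hodd : g ^ (2 ^ a) ∈ Z := by
    refine h _ (pow_mem hg _) ?_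
    rw [orderOf_pow, ho, Nat.gcd_mul_right_left, Nat.mul_div_cancel_left _ (by positivity)]
    exact hm
  have hco : Nat.Coprime m (2 ^ a) := Nat.Coprime.pow_right a (Nat.coprime_two_right.2 hm)
  have hb := Nat.gcd_eq_gcd_ab m (2 ^ a)
  rw [hco.gcd_eq_one] at hb
  have : g = (g ^ m) ^ (m.gcdA (2 ^ a)) * (g ^ (2 ^ a)) ^ (m.gcdB (2 ^ a)) := by
    rw [← zpow_natCast g m, ← zpow_natCast g (2 ^ a), ← _root_.zpow_mul, ← _root_.zpow_mul, ← zpow_add,
      ← hb]
    simp
  rw [this]
  exact mul_mem (zpow_mem (Subgroup.mem_sup_left h2) _) (zpow_mem (Subgroup.mem_sup_right hodd) _)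

/-- Pronormality of subgroups of odd index in a central quotient. -/
theorem pronormal_quotient [Finite G] (Z : Subgroup G) [Z.Normal] (hZ : Z ≤ Subgroup.center G)
    (S0 : Sylow 2 G)
    (h : ∀ H : Subgroup G, (S0 : Subgroup G) ≤ H → Z ≤ H →
      Subgroup.normalizer ((S0 : Subgroup G) : Set G) ≤ Subgroup.normalizer (H : Set G))
    {K : Subgroup (G ⧸ Z)} (hK : Odd K.index) : Cfsg.IsPronormal K := by
  have : Fact (Nat.Prime 2) := ⟨Nat.prime_two⟩
  have hsurj := QuotientGroup.mk'_surjective Z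
  refine pronormal_of_normalizer (S0.mapSurjective hsurj) (fun H hle => ?_) hK
  rintro g hg
  obtain ⟨x, rfl⟩ := hsurj g
  rw [Sylow.coe_mapSurjective] at hg hle
  set f := QuotientGroup.mk' Z
  have hxS : x ∈ Subgroup.normalizer ((S0 : Subgroup G) : Set G) := by
    have hmem : x • S0 = S0 := by
      have hle1 : ((x • S0 : Sylow 2 G) : Subgroup G) ≤ (S0 : Subgroup G) ⊔ Z := by
        rintro _ ⟨s, hs, rfl⟩
        have h1 : f (x * s * x⁻¹) ∈ (S0 : Subgroup G).map f := by
          rw [map_mul, map_mul, map_inv]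
          exact (Subgroup.mem_normalizer_iff.1 hg _).1 ⟨s, hs, rfl⟩
        obtain ⟨t, ht, hte⟩ := h1
        have hz : t⁻¹ * (x * s * x⁻¹) ∈ Z := QuotientGroup.eq.1 hte
        have e : x * s * x⁻¹ = t * (t⁻¹ * (x * s * x⁻¹)) := by group
        show x * s * x⁻¹ ∈ _
        rw [e]
        exact mul_mem (Subgroup.mem_sup_left ht) (Subgroup.mem_sup_right hz)
      obtain ⟨y, hy⟩ := MulAction.exists_smul_eq ↥((S0 : Subgroup G) ⊔ Z)
        ((x • S0).subtype hle1) (S0.subtype le_sup_left)
      rw [Sylow.smul_subtype] at hy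
      have hy2 := Sylow.subtype_injective hy
      have hy3 : (y : G) ∈ Subgroup.normalizer ((S0 : Subgroup G) : Set G) :=
        sup_le Subgroup.le_normalizer (hZ.trans (Subgroup.center_le_normalizer _)) y.2
      have hy3 := Sylow.smul_eq_iff_mem_normalizer.2 hy3
      exact (MulAction.injective (y : G)) (hy2.trans hy3.symm)
    exact Sylow.smul_eq_iff_mem_normalizer.1 hmem
  have hN := h (H.comap f) (fun s hs => hle ⟨s, hs, rfl⟩) (fun z hz => by
    show f z ∈ H
    have e1 : f z = 1 := (QuotientGroup.eq_one_iff z).2 hz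
    rw [e1]; exact H.one_mem) hxS
  rw [Subgroup.mem_normalizer_iff] at hN ⊢
  intro y
  obtain ⟨y, rfl⟩ := hsurj y
  rw [← map_inv, ← map_mul, ← map_mul]
  exact hN y

theorem isPronormal_map {G' : Type*} [Group G'] (e : G ≃* G') {H : Subgroup G}
    (h : Cfsg.IsPronormal H) : Cfsg.IsPronormal (H.map e.toMonoidHom) := by
  intro g
  obtain ⟨x, hx, he⟩ := h (e.symm g)
  have key : ∀ a : G, (H.map (MulAut.conj a).toMonoidHom).map e.toMonoidHom =
      (H.map e.toMonoidHom).map (MulAut.conj (e a)).toMonoidHom := by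
    intro a
    rw [Subgroup.map_map, Subgroup.map_map]
    congr 1
    ext y
    simp
  refine ⟨e x, ?_, ?_⟩
  · have := Subgroup.mem_map_of_mem e.toMonoidHom hx
    rw [Subgroup.map_sup, key, e.apply_symm_apply] at this
    exact this
  · have h2 := congrArg (Subgroup.map e.toMonoidHom) he
    rwa [key, key, e.apply_symm_apply] at h2

/-- Transfer along an isomorphism. -/
theorem pronormal_equiv {G' : Type*} [Group G'] (e : G ≃* G')
    (h : ∀ H : Subgroup G, Odd H.index → Cfsg.IsPronormal H) {K : Subgroup G'} (hK : Odd K.index) :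
    Cfsg.IsPronormal K := by
  have h1 : Odd (K.map e.symm.toMonoidHom).index := by
    rwa [show (K.map e.symm.toMonoidHom).index = K.index from Subgroup.index_map_equiv K e.symm]
  have := isPronormal_map e (h _ h1)
  rw [Subgroup.map_map] at this
  convert this
  rw [show e.toMonoidHom.comp e.symm.toMonoidHom = MonoidHom.id G' by ext; simp, Subgroup.map_id]

end Cfsg.Agent.OddPro

namespace Cfsg.Agent.OddPro

/-- Transfer between central quotients of isomorphic groups. -/
theorem pronormal_centerQuot_equiv {G G' : Type*} [Group G] [Group G'] (φ : G ≃* G')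
    (h : ∀ K : Subgroup (G ⧸ Subgroup.center G), Odd K.index → Cfsg.IsPronormal K)
    {K : Subgroup (G' ⧸ Subgroup.center G')} (hK : Odd K.index) : Cfsg.IsPronormal K := by
  refine pronormal_equiv (QuotientGroup.congr (Subgroup.center _) (Subgroup.center _) φ ?_) h hK
  ext x
  simp only [Subgroup.mem_map, Subgroup.mem_center_iff]
  constructor
  · rintro ⟨y, hy, rfl⟩ g
    obtain ⟨g, rfl⟩ := φ.surjective g
    exact ((map_mul φ g y).symm.trans (congrArg φ (hy g))).trans (map_mul φ y g)
  · intro hx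
    refine ⟨φ.symm x, fun g => φ.injective ?_, φ.apply_symm_apply x⟩
    rw [map_mul, map_mul, φ.apply_symm_apply]
    exact hx _

end Cfsg.Agent.OddPro
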