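/-
Overgroups of the upper unitriangular group in SL(n, F) are normalised by the torus, hence by the
normaliser of the unitriangular group.
-/
import Cfsg.Agent.Lib.SLBlocks.Unitri
import Cfsg.Agent.Lib.Classical.SL

set_option autoImplicit false

namespace Cfsg.Agent.OddPro

open Matrix
open Cfsg.Agent.SLBlocks
open Cfsg.Agent.Unipotent (permGL permGL_apply)

variable {n : ℕ} {F : Type*} [Field F]

local notation "SLn" => Matrix.SpecialLinearGroup (Fin n) F
local notation "Mn" => Matrix (Fin n) (Fin n) F

/-- All root elements at the position `(a, b)` lie in `H`. -/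
def Root (H : Subgroup SLn) (a b : Fin n) : Prop :=
  ∀ (h : a ≠ b) (c : F), SpecialLinearGroup.transvection h c ∈ H

/-- Both root subgroups at the pair lie in `H`. -/
def Rel (H : Subgroup SLn) (a b : Fin n) : Prop := Root H a b ∧ Root H b a

theorem rel_refl (H : Subgroup SLn) (a : Fin n) : Rel H a a :=
  ⟨fun h => absurd rfl h, fun h => absurd rfl h⟩

theorem rel_symm {H : Subgroup SLn} {a b : Fin n} (h : Rel H a b) : Rel H b a := ⟨h.2, h.1⟩

theorem root_trans {H : Subgroup SLn} {a b c : Fin n} (h1 : Root H a b) (h2 : Root H b c) :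
    Root H a c := by
  intro hac s
  rcases eq_or_ne a b with rfl | hab
  · exact h2 hac s
  rcases eq_or_ne b c with rfl | hbc
  · exact h1 hac s
  have key : SpecialLinearGroup.transvection hac s =
      SpecialLinearGroup.transvection hab s * SpecialLinearGroup.transvection hbc 1 *
        SpecialLinearGroup.transvection hab (-s) * SpecialLinearGroup.transvection hbc (-1) := by
    refine Subtype.ext ?_
    show (1 + Matrix.single a c s : Mn) = (1 + Matrix.single a b s) * (1 + Matrix.single b c 1) *
      (1 + Matrix.single a b (-s)) * (1 + Matrix.single b c (-1))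
    have e1 : ∀ (p q : Fin n) (x : F), Matrix.single p q (-x) = -Matrix.single p q x := fun p q x => by
      ext i j; simp [Matrix.single_apply]; split_ifs <;> simp
    rw [e1, e1]
    simp [mul_add, add_mul, Matrix.single_mul_single_same, Matrix.single_mul_single_of_ne, hab.symm,
      hbc.symm, hac.symm]
    abel_nf
  rw [key]
  exact H.mul_mem (H.mul_mem (H.mul_mem (h1 hab _) (h2 hbc _)) (h1 hab _)) (h2 hbc _)

theorem rel_trans {H : Subgroup SLn} {a b c : Fin n} (h1 : Rel H a b) (h2 : Rel H b c) : Rel H a c :=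
  ⟨root_trans h1.1 h2.1, root_trans h2.2 h1.2⟩


theorem transvection_uni {a b : Fin n} (hab : a < b) (c : F) :
    SpecialLinearGroup.transvection (ne_of_lt hab) c ∈ uniU n F := by
  rw [mem_uniU, SpecialLinearGroup.transvection_coe]
  refine ⟨fun i j (hij : j < i) => ?_, fun i => ?_⟩
  · rw [Matrix.add_apply, Matrix.one_apply_ne (ne_of_gt hij), zero_add, Matrix.single_apply, if_neg]
    rintro ⟨rfl, rfl⟩
    exact lt_asymm hij hab
  · rw [Matrix.add_apply, Matrix.one_apply_eq, Matrix.single_apply, if_neg, add_zero]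
    rintro ⟨rfl, rfl⟩
    exact lt_irrefl _ hab

theorem root_of_lt {H : Subgroup SLn} (hU : uniU n F ≤ H) {a b : Fin n} (hab : a < b) : Root H a b := fun _ c => hU (transvection_uni hab c)

theorem root_of_le {H : Subgroup SLn} (hU : uniU n F ≤ H) {a b : Fin n} (hab : a ≤ b) : Root H a b := by
  rcases eq_or_lt_of_le hab with rfl | h
  · exact fun h => absurd rfl h
  · exact root_of_lt hU h

/-- The classes are intervals. -/
theorem rel_between {H : Subgroup SLn} (hU : uniU n F ≤ H) {x v z : Fin n} (h : Rel H x z) (h1 : x ≤ v) (h2 : v ≤ z) : Rel H x v :=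
  ⟨root_of_le hU h1, root_trans (root_of_le hU h2) h.2⟩

/-- Class preservation by a permutation carrying positive roots into `H`. -/
theorem rel_perm {H : Subgroup SLn} (hU : uniU n F ≤ H) {σ : Equiv.Perm (Fin n)} (hσ : ∀ a b, Root H a b → Root H (σ a) (σ b)) (i : Fin n) :
    Rel H i (σ i) := by
  classical
  have hord : ∀ a b : Fin n, a < b → ¬ Rel H (σ a) (σ b) → σ a < σ b := by
    intro a b hab hn
    rcases lt_trichotomy (σ a) (σ b) with h | h | h
    · exact h
    · exact absurd (σ.injective h) hab.ne
    · exact absurd ⟨hσ _ _ (root_of_lt hU hab), root_of_lt hU h⟩ hn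
  by_contra hne
  rcases lt_trichotomy i (σ i) with hlt | heq | hgt
  · let C := Finset.univ.filter fun v => v < σ i ∧ ¬ Rel H v (σ i)
    have h1 : Finset.Iic i ⊆ C := by
      intro v hv
      rw [Finset.mem_Iic] at hv
      refine Finset.mem_filter.2 ⟨Finset.mem_univ _, lt_of_le_of_lt hv hlt, fun hr => hne ?_⟩
      exact rel_trans (rel_symm (rel_between hU hr hv hlt.le)) hr
    have h2 : C.map σ.symm.toEmbedding ⊆ Finset.Iio i := by
      intro j hj
      obtain ⟨v, hv, rfl⟩ := Finset.mem_map.1 hj
      obtain ⟨-, hv1, hv2⟩ := Finset.mem_filter.1 hv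
      rw [Finset.mem_Iio, Equiv.toEmbedding_apply]
      by_contra hle
      rcases eq_or_lt_of_le (not_lt.1 hle) with e | e
      · exact hv1.ne (by rw [e]; simp)
      · have := hord i (σ.symm v) e (by rw [Equiv.apply_symm_apply]; exact fun h => hv2 (rel_symm h))
        rw [Equiv.apply_symm_apply] at this
        exact lt_asymm this hv1
    have := Finset.card_le_card h1
    have := Finset.card_le_card h2
    simp only [Fin.card_Iic, Fin.card_Iio, Finset.card_map] at *
    omega
  · exact hne (heq ▸ rel_refl H i)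
  · let C := Finset.univ.filter fun v => σ i < v ∧ ¬ Rel H (σ i) v
    have h1 : Finset.Ici i ⊆ C := by
      intro v hv
      rw [Finset.mem_Ici] at hv
      refine Finset.mem_filter.2 ⟨Finset.mem_univ _, lt_of_lt_of_le hgt hv, fun hr => hne ?_⟩
      exact rel_symm (rel_between hU hr hgt.le hv)
    have h2 : C.map σ.symm.toEmbedding ⊆ Finset.Ioi i := by
      intro j hj
      obtain ⟨v, hv, rfl⟩ := Finset.mem_map.1 hj
      obtain ⟨-, hv1, hv2⟩ := Finset.mem_filter.1 hv
      rw [Finset.mem_Ioi, Equiv.toEmbedding_apply]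
      by_contra hle
      rcases eq_or_lt_of_le (not_lt.1 hle) with e | e
      · exact hv1.ne' (by rw [← e]; simp)
      · have := hord (σ.symm v) i e (by rw [Equiv.apply_symm_apply]; exact fun h => hv2 (rel_symm h))
        rw [Equiv.apply_symm_apply] at this
        exact lt_asymm this hv1
    have := Finset.card_le_card h1
    have := Finset.card_le_card h2
    simp only [Fin.card_Ici, Fin.card_Ioi, Finset.card_map] at *
    omega

theorem diag2n_mem {H : Subgroup SLn} {a b : Fin n} (hab : a ≠ b) (h : Rel H a b) (x : F) (hx : x ≠ 0) :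
    SpecialLinearGroup.diag2n hab x hx ∈ H := by
  rw [ClassicalSL.diag2n_eq_weyl hab hx]
  have : ∀ y, ClassicalSL.weylElt hab y ∈ H := fun y =>
    H.mul_mem (H.mul_mem (h.1 hab _) (h.2 hab.symm _)) (h.1 hab _)
  exact H.mul_mem (this _) (this _)

/-- Diagonal matrices with product one on every class lie in `H`. -/
theorem diag_mem_of_classes {H : Subgroup SLn} (e : Fin n → F)
    (hp : ∀ a, ∏ b ∈ @Finset.filter _ (fun b => Rel H a b) (Classical.decPred _) Finset.univ, e b = 1)
    (X : SLn) (hX : (X : Mn) = Matrix.diagonal e) : X ∈ H := by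
  classical
  have he : ∀ i, e i ≠ 0 := by
    intro i hi
    have := X.2
    rw [hX, Matrix.det_diagonal, Finset.prod_eq_zero (f := e) (Finset.mem_univ i) hi] at this
    exact zero_ne_one this
  induction hk : (Finset.univ.filter fun i => e i ≠ 1).card using Nat.strong_induction_on
    generalizing e X with
  | _ k ih =>
    by_cases hall : ∀ i, e i = 1
    · have : X = 1 := Subtype.ext (by rw [hX]; simp [funext hall])
      exact this ▸ H.one_mem
    obtain ⟨i, hi⟩ := not_forall.1 hall
    obtain ⟨j, hjm, hj⟩ : ∃ j ∈ (Finset.univ.filter fun b => Rel H i b).erase i, e j ≠ 1 := by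
      by_contra hcon
      simp only [not_exists, not_and, not_not] at hcon
      have h := hp i
      rw [Finset.filter_congr_decidable, ← Finset.mul_prod_erase _ _
        (Finset.mem_filter.2 ⟨Finset.mem_univ i, rel_refl H i⟩),
        Finset.prod_eq_one hcon, mul_one] at h
      exact hi h
    obtain ⟨hji, hjf⟩ := Finset.mem_erase.1 hjm
    have hr : Rel H i j := (Finset.mem_filter.1 hjf).2
    set e' : Fin n → F := fun b => (if b = i then (e i)⁻¹ else if b = j then e i else 1) * e b
    set Y : SLn := SpecialLinearGroup.diag2n hji.symm (e i)⁻¹ (inv_ne_zero (he i)) * X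
    have hYv : (Y : Mn) = Matrix.diagonal e' := by
      show _ * (X : Mn) = _
      rw [SpecialLinearGroup.diag2n_coe, hX, Matrix.diagonal_mul_diagonal]
      congr 1
      funext b
      simp only [e']
      split_ifs <;> simp_all
    have hlt : (Finset.univ.filter fun b => e' b ≠ 1).card < k := by
      rw [← hk]
      refine Finset.card_lt_card ((Finset.ssubset_iff_of_subset ?_).2 ⟨i, ?_, ?_⟩)
      · intro b hb
        simp only [Finset.mem_filter, Finset.mem_univ, true_and, e'] at hb ⊢
        intro hb1
        rw [if_neg (fun (h : b = i) => hi (h ▸ hb1)), if_neg (fun (h : b = j) => hj (h ▸ hb1)), hb1, mul_one] at hb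
        exact hb rfl
      · simpa using hi
      · simp [e', he i]
    have hp' : ∀ a, ∏ b ∈ @Finset.filter _ (fun b => Rel H a b) (Classical.decPred _) Finset.univ, e' b = 1 := by
      intro a
      rw [Finset.prod_mul_distrib, hp a, mul_one]
      by_cases ha : Rel H a i
      · rw [Finset.prod_eq_mul (a := i) (b := j) hji.symm]
        · simp [hji, he i]
        · intro b _ hb
          simp [hb.1, hb.2]
        · simp [ha]
        · simp [rel_trans ha hr]
      · refine Finset.prod_eq_one fun b hb => ?_
        have hb' : Rel H a b := by simpa using hb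
        rw [if_neg (fun (h : b = i) => ha (h ▸ hb')),
          if_neg (fun (h : b = j) => ha (rel_trans (h ▸ hb' : Rel H a j) (rel_symm hr)))]
    have hY : Y ∈ H := ih _ hlt e' hp' Y hYv (fun b => by
      simp only [e']; split_ifs <;> simp [he]) rfl
    have h2 : SpecialLinearGroup.diag2n hji.symm (e i)⁻¹ (inv_ne_zero (he i)) ∈ H := diag2n_mem _ hr _ _
    exact (Subgroup.mul_mem_cancel_left H h2).1 hY

theorem monomial_split (h : SLn) :
    ∃ u ∈ uniU n F, ∃ v ∈ uniU n F, ∃ (σ : Equiv.Perm (Fin n)) (d : Fin n → F),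
      ∀ a b, ((u * h * v : SLn) : Mn) a b = if a = σ b then d b else 0 := by
  classical
  obtain ⟨A, hA, B, hB, σ, hg⟩ := exists_bruhat h
  have hdA : ∀ i, A.1 i i ≠ 0 := upper_diag_ne_zero hA
  have hdB : ∀ i, B.1 i i ≠ 0 := upper_diag_ne_zero hB
  have hA' : (A⁻¹).1.IsUpperTriangular := (Cfsg.upperTriangularGL n F).inv_mem hA
  have hB' : (B⁻¹).1.IsUpperTriangular := (Cfsg.upperTriangularGL n F).inv_mem hB
  have hu : IsUni (Matrix.diagonal (fun i => A.1 i i) * (A⁻¹).1) := by
    refine ⟨(Matrix.blockTriangular_diagonal _).mul hA', fun i => ?_⟩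
    have := congrFun (congrFun (Units.mul_inv A) i) i
    rw [upper_mul_diag hA hA', Matrix.one_apply_eq] at this
    rw [Matrix.diagonal_mul]
    exact this
  have hv : IsUni ((B⁻¹).1 * Matrix.diagonal (fun i => B.1 i i)) := by
    refine ⟨hB'.mul (Matrix.blockTriangular_diagonal _), fun i => ?_⟩
    have := congrFun (congrFun (Units.inv_mul B) i) i
    rw [upper_mul_diag hB' hB, Matrix.one_apply_eq] at this
    rw [Matrix.mul_diagonal]
    exact this
  have hdet : ∀ M : Mn, IsUni M → M.det = 1 := fun M hM => by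
    rw [Matrix.det_of_upperTriangular hM.1, Finset.prod_eq_one fun i _ => hM.2 i]
  refine ⟨⟨_, hdet _ hu⟩, hu, ⟨_, hdet _ hv⟩, hv, σ, fun b => A.1 (σ b) (σ b) * B.1 b b, fun a b => ?_⟩
  have e : (h : Mn) = A.1 * (permGL n F σ).1 * B.1 := congrArg Units.val hg
  show (Matrix.diagonal (fun i => A.1 i i) * (A⁻¹).1 * (h : Mn) *
      ((B⁻¹).1 * Matrix.diagonal (fun i => B.1 i i))) a b = _
  rw [e, show Matrix.diagonal (fun i => A.1 i i) * (A⁻¹).1 * (A.1 * (permGL n F σ).1 * B.1) *
      ((B⁻¹).1 * Matrix.diagonal (fun i => B.1 i i)) = Matrix.diagonal (fun i => A.1 i i) *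
      (permGL n F σ).1 * Matrix.diagonal (fun i => B.1 i i) by simp [Matrix.mul_assoc],
    Matrix.mul_diagonal, Matrix.diagonal_mul, permGL_apply]
  split_ifs with h1
  · subst h1; ring
  · ring

/-- Conjugation of a root element by a monomial one. -/
theorem monomial_conj {N : SLn} {σ : Equiv.Perm (Fin n)} {d : Fin n → F}
    (hN : ∀ a b, (N : Mn) a b = if a = σ b then d b else 0) (hd : ∀ b, d b ≠ 0) {a b : Fin n} (hab : a ≠ b) (c : F) :
    N * SpecialLinearGroup.transvection hab c * N⁻¹ =
      SpecialLinearGroup.transvection (fun e => hab (σ.injective e) : σ a ≠ σ b) (d a * c / d b) := by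
  rw [mul_inv_eq_iff_eq_mul]
  refine Subtype.ext ?_
  show (N : Mn) * (1 + Matrix.single a b c) = (1 + Matrix.single (σ a) (σ b) (d a * c / d b)) * (N : Mn)
  rw [Matrix.mul_add, Matrix.mul_one, Matrix.add_mul, Matrix.one_mul]
  congr 1
  ext x y
  rcases eq_or_ne y b with rfl | hy
  · rw [Matrix.mul_single_apply_same, hN]
    rcases eq_or_ne x (σ a) with rfl | hx
    · rw [Matrix.single_mul_apply_same, hN, if_pos rfl, if_pos rfl]
      field_simp [hd]
    · rw [Matrix.single_mul_apply_of_ne _ _ _ _ _ hx, if_neg hx, zero_mul]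
  · rw [Matrix.mul_single_apply_of_ne _ _ _ _ _ hy]
    rcases eq_or_ne x (σ a) with rfl | hx
    · rw [Matrix.single_mul_apply_same, hN, if_neg (fun e => hy (σ.injective e).symm), mul_zero]
    · rw [Matrix.single_mul_apply_of_ne _ _ _ _ _ hx]

theorem monomial_ne_zero {N : SLn} {σ : Equiv.Perm (Fin n)} {d : Fin n → F}
    (hN : ∀ a b, (N : Mn) a b = if a = σ b then d b else 0) (b : Fin n) : d b ≠ 0 := by
  intro hb
  have := N.2
  rw [Matrix.det_eq_zero_of_column_eq_zero b (fun a => by rw [hN, hb]; simp)] at this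
  exact zero_ne_one this

/-- An overgroup of the unitriangular group is normalised by the diagonal group. -/
theorem diag_conj_mem {H : Subgroup SLn} (hU : uniU n F ≤ H) (t : SLn) (e : Fin n → F) (ht : (t : Mn) = Matrix.diagonal e) {h : SLn}
    (hh : h ∈ H) : t * h * t⁻¹ ∈ H := by
  classical
  have he : ∀ i, e i ≠ 0 := by
    intro i hi
    have := t.2
    rw [ht, Matrix.det_diagonal, Finset.prod_eq_zero (f := e) (Finset.mem_univ i) hi] at this
    exact zero_ne_one this
  obtain ⟨u, hu, v, hv, σ, d, hN⟩ := monomial_split h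
  set N := u * h * v
  have hNH : N ∈ H := H.mul_mem (H.mul_mem (hU hu) hh) (hU hv)
  have hd := monomial_ne_zero hN
  have hroot : ∀ a b, Root H a b → Root H (σ a) (σ b) := by
    intro a b hr hne c
    have hab : a ≠ b := fun e' => hne (by rw [e'])
    have := H.mul_mem (H.mul_mem hNH (hr hab (c * d b / d a))) (H.inv_mem hNH)
    rw [monomial_conj hN hd hab] at this
    convert this using 2
    field_simp [hd]
  have hrel := rel_perm hU hroot
  let f : Fin n → F := fun i => e i / e (σ.symm i)
  have hf : ∏ i, f i = 1 := by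
    simp only [f]
    rw [Finset.prod_div_distrib, Equiv.prod_comp σ.symm e, div_self]
    exact Finset.prod_ne_zero_iff.2 fun i _ => he i
  let E : SLn := ⟨Matrix.diagonal f, by rw [Matrix.det_diagonal, hf]⟩
  have hE : E ∈ H := by
    refine diag_mem_of_classes f (fun a => ?_) E rfl
    simp only [f]
    have hswap : ∏ b ∈ Finset.univ.filter (fun b => Rel H a b), e (σ.symm b) =
        ∏ b ∈ Finset.univ.filter (fun b => Rel H a b), e b := by
      refine Finset.prod_equiv σ.symm ?_ fun b _ => rfl
      intro b
      simp only [Finset.mem_filter, Finset.mem_univ, true_and]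
      have h2 := hrel (σ.symm b)
      rw [Equiv.apply_symm_apply] at h2
      exact ⟨fun h3 => rel_trans h3 (rel_symm h2), fun h3 => rel_trans h3 h2⟩
    rw [Finset.prod_div_distrib, hswap, div_self]
    exact Finset.prod_ne_zero_iff.2 fun i _ => he i
  have hcN : t * N = E * N * t := by
    refine Subtype.ext ?_
    show (t : Mn) * (N : Mn) = Matrix.diagonal f * (N : Mn) * (t : Mn)
    rw [ht]
    ext a b
    rw [Matrix.diagonal_mul, Matrix.mul_diagonal, Matrix.diagonal_mul, hN]
    split_ifs with hab
    · subst hab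
      simp only [f, Equiv.symm_apply_apply]
      field_simp [he]
    · ring
  have htu : ∀ w ∈ uniU n F, t * w * t⁻¹ ∈ H := by
    intro w hw
    refine hU ?_
    have := isUni_conj (A := SpecialLinearGroup.toGL t)
      (show (t : Mn).IsUpperTriangular by rw [ht]; exact Matrix.blockTriangular_diagonal _) hw
    rw [mem_uniU]
    convert this using 1
    show (t : Mn) * (w : Mn) * ((t⁻¹ : SLn) : Mn) = _
    rw [← map_inv]
    rfl
  have : t * h * t⁻¹ = (t * u⁻¹ * t⁻¹) * (E * N) * (t * v⁻¹ * t⁻¹) := by
    have e1 : E * N = t * N * t⁻¹ := by rw [hcN, mul_inv_cancel_right]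
    rw [e1]; simp only [N]; group
  rw [this]
  exact H.mul_mem (H.mul_mem (htu _ (inv_mem hu)) (H.mul_mem hE hNH)) (htu _ (inv_mem hv))

/-- An overgroup of the unitriangular group is normalised by the normaliser of that group. -/
theorem normalizer_uniU_le {H : Subgroup SLn} (hU : uniU n F ≤ H) : Subgroup.normalizer (uniU n F : Set SLn) ≤ Subgroup.normalizer (H : Set SLn) := by
  intro g hg
  obtain ⟨u, hu, v, hv, σ, d, hN⟩ := monomial_split g
  set N := u * g * v
  have hNn : N ∈ Subgroup.normalizer (uniU n F : Set SLn) :=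
    mul_mem (mul_mem (Subgroup.le_normalizer hu) hg) (Subgroup.le_normalizer hv)
  have hd := monomial_ne_zero hN
  have hmono : StrictMono σ := by
    intro a b hab
    have h1 := (Subgroup.mem_normalizer_iff.1 hNn _).1 (transvection_uni hab (1 : F))
    rw [monomial_conj hN hd (ne_of_lt hab), mem_uniU] at h1
    rcases lt_trichotomy (σ a) (σ b) with h | h | h
    · exact h
    · exact absurd (σ.injective h) hab.ne
    · have := h1.1 h
      rw [SpecialLinearGroup.transvection_coe, Matrix.add_apply, Matrix.one_apply_ne h.ne',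
        Matrix.single_apply_same, zero_add] at this
      simp [hd] at this
  have hid : ⇑σ = id := funext fun i => le_antisymm (hmono.le_id i) (hmono.id_le i)
  have hdiag : (N : Mn) = Matrix.diagonal d := by
    ext a b
    rw [hN, hid, id, Matrix.diagonal_apply]
    split_ifs with h1 <;> simp [h1]
  have hNH : N ∈ Subgroup.normalizer (H : Set SLn) := by
    refine Subgroup.mem_normalizer_iff.2 fun h => ⟨fun hh => diag_conj_mem hU N d hdiag hh, fun hh => ?_⟩
    have h2 : ((N⁻¹ : SLn) : Mn) = Matrix.diagonal fun i => (d i)⁻¹ := by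
      have e1 : Matrix.diagonal (fun i => (d i)⁻¹) * (N : Mn) = 1 := by
        rw [hdiag, Matrix.diagonal_mul_diagonal, ← Matrix.diagonal_one]
        congr 1
        funext i
        exact inv_mul_cancel₀ (hd i)
      have e2 : (N : Mn) * ((N⁻¹ : SLn) : Mn) = 1 := by
        exact congrArg Subtype.val (mul_inv_cancel N)
      exact (left_inv_eq_right_inv e1 e2).symm
    have := diag_conj_mem hU N⁻¹ _ h2 hh
    simpa [mul_assoc] using this
  have e : g = u⁻¹ * N * v⁻¹ := by simp only [N]; group
  rw [e]
  exact mul_mem (mul_mem (inv_mem (Subgroup.le_normalizer (hU hu))) hNH) (inv_mem (Subgroup.le_normalizer (hU hv)))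

end Cfsg.Agent.OddPro
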