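/-
PSL(n, q), q even: subgroups of odd index are pronormal.
-/
import Cfsg.Agent.Lib.OddIndexPro.Basic
import Cfsg.Agent.Lib.OddIndexPro.Unitri
import Cfsg.Agent.Lib.SLBlocks.DefectGroups

set_option autoImplicit false

namespace Cfsg.Agent.OddPro

theorem pronormal_psl_even {F : Type*} [Field F] [Fintype F] (he : ¬ Odd (Fintype.card F)) {n : ℕ}
    {K : Subgroup (Matrix.ProjectiveSpecialLinearGroup (Fin n) F)} (hK : Odd K.index) :
    Cfsg.IsPronormal K := by
  classical
  haveI : Fact (Nat.Prime 2) := ⟨Nat.prime_two⟩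
  haveI : CharP F 2 := by
    obtain ⟨p, hp⟩ := CharP.exists F
    obtain ⟨k, hpp, hk⟩ := FiniteField.card F p
    have : p = 2 := by
      by_contra hne
      exact he (hk ▸ (hpp.odd_of_ne_two hne).pow)
    exact this ▸ hp
  exact pronormal_quotient (Subgroup.center _) le_rfl (SLBlocks.sylU n F 2)
    (fun H hH _ => normalizer_uniU_le hH) hK

end Cfsg.Agent.OddPro
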