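/-
The semidihedral Sylow 2-subgroup of GL(2,q), q ≡ 3 (mod 4), explicitly.
-/
import Mathlib.LinearAlgebra.Matrix.GeneralLinearGroup.Card
import Mathlib.FieldTheory.IsAlgClosed.AlgebraicClosure
import Mathlib.RingTheory.IntegralDomain
import Mathlib.GroupTheory.SpecificGroups.Cyclic
import Mathlib.NumberTheory.LegendreSymbol.Basic
import Mathlib.GroupTheory.Sylow
import Mathlib.Tactic

set_option autoImplicit false

namespace Cfsg.Agent.OddPro.GLTwo

open Matrix

variable {F : Type*} [Field F] [Fintype F]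

local notation "G2" => GL (Fin 2) F
local notation "M2" => Matrix (Fin 2) (Fin 2) F

/-- Complex shape. -/
def Cx (g : M2) : Prop := g 0 0 = g 1 1 ∧ g 0 1 = -g 1 0

/-- The nonsplit torus. -/
def torusE : Subgroup G2 where
  carrier := {g | Cx (g : M2)}
  one_mem' := by simp [Cx]
  mul_mem' := by
    intro a b ha hb
    simp only [Set.mem_setOf_eq, Cx, Units.val_mul, Matrix.mul_apply, Fin.sum_univ_two] at ha hb ⊢
    rw [ha.1, ha.2, hb.1, hb.2]
    constructor <;> ring
  inv_mem' := by
    intro a ha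
    have hd : (a : M2).det ≠ 0 := ((Matrix.isUnit_iff_isUnit_det (a : M2)).1 a.isUnit).ne_zero
    simp only [Set.mem_setOf_eq, Cx] at ha ⊢
    rw [Matrix.coe_units_inv, Matrix.inv_def, Matrix.adjugate_fin_two]
    simp [Matrix.smul_apply, ha.1, ha.2]

variable (F) in
/-- The reflection. -/
def refl : G2 := Matrix.GeneralLinearGroup.mkOfDetNeZero !![1, 0; 0, -1] (by simp [Matrix.det_fin_two])

theorem refl_val : ((refl F : G2) : M2) = !![1, 0; 0, -1] := rfl

theorem refl_mul_self : refl F * refl F = 1 := by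
  ext i j
  fin_cases i <;> fin_cases j <;> simp [refl_val, Matrix.mul_apply, Fin.sum_univ_two]

theorem refl_inv : (refl F)⁻¹ = refl F := inv_eq_of_mul_eq_one_right refl_mul_self

/-- Conjugate. -/
def bar (g : G2) : G2 := refl F * g * refl F

theorem bar_val (g : G2) : (bar g : M2) = !![(g : M2) 0 0, -(g : M2) 0 1; -(g : M2) 1 0, (g : M2) 1 1] := by
  ext i j
  fin_cases i <;> fin_cases j <;>
    simp [bar, refl_val, Matrix.mul_apply, Matrix.vecMul, dotProduct, Fin.sum_univ_two]

theorem bar_mem {g : G2} (hg : g ∈ torusE (F := F)) : bar g ∈ torusE (F := F) := by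
  show Cx _
  have h : Cx (g : M2) := hg
  rw [bar_val]
  simp [Cx, h.1, h.2]

theorem bar_bar (g : G2) : bar (bar g) = g := by
  rw [bar, bar, show refl F * (refl F * g * refl F) * refl F = (refl F * refl F) * g * (refl F * refl F) by group,
    refl_mul_self, one_mul, mul_one]

theorem bar_mul (g h : G2) : bar (g * h) = bar g * bar h := by
  simp only [bar]
  rw [show refl F * g * refl F * (refl F * h * refl F) = refl F * g * (refl F * refl F) * h * refl F by group,
    refl_mul_self, mul_one, mul_assoc (refl F) g h]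

theorem bar_one : bar (1 : G2) = 1 := by rw [bar, mul_one, refl_mul_self]

theorem bar_inv (g : G2) : bar g⁻¹ = (bar g)⁻¹ :=
  eq_inv_of_mul_eq_one_left (by rw [← bar_mul, inv_mul_cancel, bar_one])

theorem bar_pow (g : G2) (k : ℕ) : bar (g ^ k) = bar g ^ k := by
  induction k with
  | zero => simp [bar_one]
  | succ k ih => rw [pow_succ, pow_succ, bar_mul, ih]

theorem refl_mul (g : G2) : refl F * g = bar g * refl F := by
  rw [bar, mul_assoc, refl_mul_self, mul_one]

theorem comm_E {a b : G2} (ha : a ∈ torusE (F := F)) (hb : b ∈ torusE (F := F)) : a * b = b * a := by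
  have ha' : Cx (a : M2) := ha
  have hb' : Cx (b : M2) := hb
  ext i j
  fin_cases i <;> fin_cases j <;>
    simp [Matrix.mul_apply, Fin.sum_univ_two, ha'.1, ha'.2, hb'.1, hb'.2] <;> ring

variable (h3 : Fintype.card F % 4 = 3)
include h3

theorem not_sq : ∀ r : F, r * r ≠ -1 := fun r hr =>
  (FiniteField.isSquare_neg_one_iff (F := F)).1 ⟨r, hr.symm⟩ h3

theorem two_ne : (2 : F) ≠ 0 := by
  refine Ring.two_ne_zero ?_
  intro h
  have := FiniteField.even_card_of_char_two (F := F) h
  omega

theorem refl_not_mem : refl F ∉ torusE (F := F) := by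
  intro h
  have h' : Cx ((refl F : G2) : M2) := h
  simp [Cx, refl_val] at h'
  exact two_ne h3 (by linear_combination h')

theorem exists_embedding : ∃ (φ : torusE (F := F) →* AlgebraicClosure F), Function.Injective φ := by
  obtain ⟨I, hI⟩ := IsAlgClosed.exists_pow_nat_eq (-1 : AlgebraicClosure F) zero_lt_two
  set c := algebraMap F (AlgebraicClosure F)
  refine ⟨{ toFun := fun g => c ((g.1 : M2) 0 0) + c ((g.1 : M2) 1 0) * I, map_one' := by simp, map_mul' := fun a b => ?_ }, ?_⟩
  · have hb : Cx (b.1 : M2) := b.2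
    have ha : Cx (a.1 : M2) := a.2
    simp [Matrix.mul_apply, Fin.sum_univ_two, ha.2]
    rw [← ha.1]
    linear_combination (-(c ((a.1 : M2) 1 0) * c ((b.1 : M2) 1 0))) * hI
  · intro a b hab
    simp only [MonoidHom.coe_mk, OneHom.coe_mk] at hab
    have h1 : (a.1 : M2) 1 0 = (b.1 : M2) 1 0 := by
      by_contra hne
      set r : F := ((b.1 : M2) 0 0 - (a.1 : M2) 0 0) / ((a.1 : M2) 1 0 - (b.1 : M2) 1 0)
      have hd : (a.1 : M2) 1 0 - (b.1 : M2) 1 0 ≠ 0 := sub_ne_zero.2 hne
      have hr : c r = I := by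
        simp only [r, map_div₀, map_sub]
        rw [div_eq_iff (by rw [← map_sub]; exact (map_ne_zero _).2 hd)]
        linear_combination (-1 : AlgebraicClosure F) * hab
      refine not_sq h3 r (c.injective ?_)
      rw [map_mul, hr, map_neg, map_one, ← sq, hI]
    have h2 : (a.1 : M2) 0 0 = (b.1 : M2) 0 0 := c.injective (by rw [h1] at hab; exact add_right_cancel hab)
    have ha : Cx (a.1 : M2) := a.2
    have hb : Cx (b.1 : M2) := b.2
    refine Subtype.ext (Units.ext ?_)
    ext i j
    fin_cases i <;> fin_cases j <;> simp [← ha.1, ← hb.1, ha.2, hb.2, h1, h2]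

theorem cyclic_E : IsCyclic (torusE (F := F)) := by
  obtain ⟨φ, hφ⟩ := exists_embedding h3
  exact isCyclic_of_subgroup_isDomain φ hφ

theorem card_E : Nat.card (torusE (F := F)) = Fintype.card F ^ 2 - 1 := by
  classical
  have hdet : ∀ p : {p : F × F // p ≠ 0}, (!![p.1.1, -p.1.2; p.1.2, p.1.1] : M2).det ≠ 0 := by
    rintro ⟨⟨a, b⟩, hp⟩ h
    simp [Matrix.det_fin_two] at h
    by_cases hb : b = 0
    · subst hb; simp at h; exact hp (by simp [h])
    · refine not_sq h3 (a / b) ?_
      field_simp
      linear_combination h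
  let e : {p : F × F // p ≠ 0} ≃ torusE (F := F) :=
    { toFun := fun p => ⟨Matrix.GeneralLinearGroup.mkOfDetNeZero _ (hdet p), by
        show Cx _; constructor <;> simp [Matrix.GeneralLinearGroup.mkOfDetNeZero]⟩
      invFun := fun g => ⟨((g.1 : M2) 0 0, (g.1 : M2) 1 0), by
        intro h
        rw [Prod.ext_iff] at h
        have hg : Cx (g.1 : M2) := g.2
        refine ((Matrix.isUnit_iff_isUnit_det (g.1 : M2)).1 g.1.isUnit).ne_zero ?_
        rw [Matrix.det_fin_two, ← hg.1, hg.2]
        simp only [Prod.fst_zero, Prod.snd_zero] at h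
        simp [h.1, h.2]⟩
      left_inv := fun p => by simp [Matrix.GeneralLinearGroup.mkOfDetNeZero]
      right_inv := fun g => by
        have hg : Cx (g.1 : M2) := g.2
        refine Subtype.ext (Units.ext ?_)
        ext i j
        fin_cases i <;> fin_cases j <;> simp [Matrix.GeneralLinearGroup.mkOfDetNeZero, hg.1, hg.2] }
  rw [← Nat.card_congr e, Nat.card_eq_fintype_card, Fintype.card_subtype_compl, Fintype.card_subtype_eq,
    Fintype.card_prod, sq]

theorem sq_eq_one_E {e : G2} (he : e ∈ torusE (F := F)) (h : e * e = 1) : e = 1 ∨ e = -1 := by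
  obtain ⟨φ, hφ⟩ := exists_embedding h3
  have hm : (-1 : G2) ∈ torusE (F := F) := by show Cx _; simp [Cx]
  have h1 : φ ⟨e, he⟩ * φ ⟨e, he⟩ = 1 := by
    rw [← map_mul]
    exact (congrArg φ (Subtype.ext h : (⟨e, he⟩ : torusE (F := F)) * ⟨e, he⟩ = 1)).trans φ.map_one
  have h2 : φ ⟨-1, hm⟩ * φ ⟨-1, hm⟩ = 1 := by
    rw [← map_mul]
    exact (congrArg φ (Subtype.ext (by simp) : (⟨-1, hm⟩ : torusE (F := F)) * ⟨-1, hm⟩ = 1)).trans φ.map_one
  have h3' : φ ⟨-1, hm⟩ = -1 := by
    rcases mul_self_eq_one_iff.1 h2 with h4 | h4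
    · exfalso
      have h5 := congrArg (fun g : torusE (F := F) => ((g.1 : G2) : M2) 0 0) (hφ (h4.trans φ.map_one.symm))
      simp at h5
      exact two_ne h3 (by linear_combination -h5)
    · exact h4
  rcases mul_self_eq_one_iff.1 h1 with h4 | h4
  · exact Or.inl (congrArg Subtype.val (hφ (h4.trans φ.map_one.symm)))
  · exact Or.inr (congrArg Subtype.val (hφ (h4.trans h3'.symm)))

/-- The properties needed of a Sylow 2-subgroup of GL(2,q). -/
theorem exists_sylow : ∃ W : Subgroup G2, IsPGroup 2 W ∧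
    Nat.card W = 2 * 2 ^ padicValNat 2 (Fintype.card F ^ 2 - 1) ∧ (-1 : G2) ∈ W ∧
    (∀ a ∈ W, a * a = 1 → (∀ w ∈ W, Commute a (w * a * w⁻¹)) → a = 1 ∨ a = -1) ∧
    (∃ u ∈ W, Matrix.GeneralLinearGroup.det u = 1 ∧ u * u ≠ 1) ∧
    (∀ g : G2, Odd (orderOf g) → (∀ w ∈ W, g * w * g⁻¹ ∈ W) → g ∈ Subgroup.center G2) := by
  classical
  have : Fact (Nat.Prime 2) := ⟨Nat.prime_two⟩
  set v := padicValNat 2 (Fintype.card F ^ 2 - 1) with hv
  have hv3 : 3 ≤ v := by
    obtain ⟨r, hr⟩ : ∃ r, Fintype.card F = 4 * r + 3 := ⟨Fintype.card F / 4, by omega⟩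
    refine (padicValNat_dvd_iff_le ?_).1 ⟨(r + 1) * (2 * r + 1), ?_⟩
    · rw [hr]; ring_nf; omega
    · have e : (4 * r + 3) ^ 2 = 8 * ((r + 1) * (2 * r + 1)) + 1 := by ring
      rw [hr, e]; simp
  have hcy := cyclic_E h3
  obtain ⟨gE, hgE⟩ := hcy.exists_generator
  have hEo : orderOf gE = Fintype.card F ^ 2 - 1 := by
    rw [orderOf_eq_card_of_forall_mem_zpowers hgE, card_E h3]
  have hne : Fintype.card F ^ 2 - 1 ≠ 0 := by
    rw [← hEo]; exact (orderOf_pos gE).ne'
  set x : G2 := ((gE ^ ((Fintype.card F ^ 2 - 1) / 2 ^ v) : torusE (F := F)) : G2) with hxdef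
  have hxE : x ∈ torusE (F := F) := Subtype.coe_prop _
  have hxo : orderOf x = 2 ^ v := by
    have hd : 2 ^ v ∣ Fintype.card F ^ 2 - 1 := pow_padicValNat_dvd
    rw [hxdef, Subgroup.orderOf_coe, orderOf_pow, hEo, Nat.gcd_eq_right (Nat.div_dvd_of_dvd hd),
      Nat.div_div_self hd hne]
  have hmemX : ∀ e ∈ torusE (F := F), e ^ (2 ^ v) = 1 → e ∈ Subgroup.zpowers x := by
    intro e he h1
    obtain ⟨φ, hφ⟩ := exists_embedding h3
    have hin : ∀ k : ℕ, x ^ k ∈ torusE (F := F) := fun k => pow_mem hxE k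
    let f : Fin (2 ^ v) → AlgebraicClosure F := fun k => φ ⟨x ^ (k : ℕ), hin k⟩
    have hfi : Function.Injective f := by
      intro a b hab
      have := pow_inj_mod.1 (congrArg Subtype.val (hφ hab))
      rw [hxo, Nat.mod_eq_of_lt a.2, Nat.mod_eq_of_lt b.2] at this
      exact Fin.ext this
    have hroot : ∀ (g : G2) (hg : g ∈ torusE (F := F)), g ^ (2 ^ v) = 1 →
        φ ⟨g, hg⟩ ∈ Polynomial.nthRootsFinset (2 ^ v) (1 : AlgebraicClosure F) := by
      intro g hg hg1
      rw [Polynomial.mem_nthRootsFinset (by positivity), ← map_pow]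
      exact (congrArg φ (Subtype.ext hg1 : (⟨g, hg⟩ : torusE (F := F)) ^ (2 ^ v) = 1)).trans φ.map_one
    have hsub : Finset.univ.image f = Polynomial.nthRootsFinset (2 ^ v) (1 : AlgebraicClosure F) := by
      refine Finset.eq_of_subset_of_card_le ?_ ?_
      · intro r hr
        obtain ⟨k, -, rfl⟩ := Finset.mem_image.1 hr
        exact hroot _ (hin k) (by
          rw [← pow_mul, mul_comm, pow_mul, show x ^ (2 ^ v) = 1 by rw [← hxo, pow_orderOf_eq_one], one_pow])
      · rw [Finset.card_image_of_injective _ hfi, Finset.card_univ, Fintype.card_fin,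
          Polynomial.nthRootsFinset_def]
        exact (Multiset.toFinset_card_le _).trans (Polynomial.card_nthRoots _ _)
    have := hroot e he h1
    rw [← hsub, Finset.mem_image] at this
    obtain ⟨k, -, hk⟩ := this
    have e2 : x ^ (k : ℕ) = e := congrArg Subtype.val (hφ hk)
    exact e2 ▸ Subgroup.npow_mem_zpowers x k
  have hXE : Subgroup.zpowers x ≤ torusE (F := F) := Subgroup.zpowers_le.2 hxE
  have hXpow : ∀ {e}, e ∈ Subgroup.zpowers x → e ^ (2 ^ v) = 1 := by
    intro e he
    obtain ⟨k, rfl⟩ := he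
    rw [← zpow_natCast, ← _root_.zpow_mul, mul_comm, _root_.zpow_mul, zpow_natCast, ← hxo,
      pow_orderOf_eq_one, one_zpow]
  have hbarX : ∀ {e}, e ∈ Subgroup.zpowers x → bar e ∈ Subgroup.zpowers x := fun {e} he =>
    hmemX _ (bar_mem (hXE he)) (by rw [← bar_pow, hXpow he, bar_one])
  let W : Subgroup G2 :=
    { carrier := {g | ∃ e ∈ Subgroup.zpowers x, g = e ∨ g = e * refl F}
      one_mem' := ⟨1, one_mem _, Or.inl rfl⟩
      mul_mem' := by
        rintro _ _ ⟨a, ha, ha'⟩ ⟨b, hb, hb'⟩
        rcases ha' with rfl | rfl <;> rcases hb' with rfl | rfl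
        · exact ⟨_, mul_mem ha hb, Or.inl rfl⟩
        · exact ⟨_, mul_mem ha hb, Or.inr (by rw [mul_assoc])⟩
        · exact ⟨_, mul_mem ha (hbarX hb), Or.inr (by rw [mul_assoc, refl_mul, mul_assoc])⟩
        · exact ⟨_, mul_mem ha (hbarX hb), Or.inl (by
            rw [mul_assoc, ← mul_assoc (refl F), refl_mul, mul_assoc (bar b), refl_mul_self, mul_one])⟩
      inv_mem' := by
        rintro _ ⟨a, ha, rfl | rfl⟩
        · exact ⟨_, inv_mem ha, Or.inl rfl⟩
        · exact ⟨_, hbarX (inv_mem ha), Or.inr (by rw [_root_.mul_inv_rev, refl_inv, refl_mul])⟩ }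
  have hcard : Nat.card W = 2 * 2 ^ v := by
    let f : Subgroup.zpowers x × Bool → W := fun p =>
      ⟨if p.2 then (p.1 : G2) * refl F else p.1, p.1, p.1.2, by cases p.2 <;> simp⟩
    have hf : Function.Bijective f := by
      refine ⟨?_, ?_⟩
      · rintro ⟨a, b⟩ ⟨a', b'⟩ h
        have h' := congrArg Subtype.val h
        have hno : ∀ c d : Subgroup.zpowers x, (c : G2) * refl F ≠ d := fun c d e => refl_not_mem h3 (by
          rw [show refl F = (c : G2)⁻¹ * d by rw [← e, inv_mul_cancel_left]]
          exact mul_mem (inv_mem (hXE c.2)) (hXE d.2))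
        cases b <;> cases b' <;> simp [f] at h'
        · subst h'; rfl
        · exact absurd h'.symm (hno _ _)
        · exact absurd h' (hno _ _)
        · subst h'; rfl
      · rintro ⟨g, e, he, rfl | rfl⟩
        · exact ⟨(⟨_, he⟩, false), rfl⟩
        · exact ⟨(⟨_, he⟩, true), rfl⟩
    rw [← Nat.card_congr (Equiv.ofBijective f hf), Nat.card_prod, Nat.card_zpowers, hxo,
      Nat.card_eq_fintype_card (α := Bool), Fintype.card_bool, mul_comm]
  have hp : IsPGroup 2 W := IsPGroup.of_card (n := v + 1) (by rw [hcard, pow_succ, mul_comm])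
  have hx4 : x ^ 4 ≠ 1 := fun h => by
    have := orderOf_dvd_of_pow_eq_one h
    rw [hxo] at this
    have := Nat.le_of_dvd (by norm_num) this
    have : 2 ^ 3 ≤ 2 ^ v := Nat.pow_le_pow_right two_pos hv3
    omega
  have hm1 : (-1 : G2) ∈ Subgroup.zpowers x := by
    refine hmemX _ (by show Cx _; simp [Cx]) ?_
    exact Even.neg_one_pow (Even.pow_of_ne_zero even_two (by omega))
  have hcube : ∀ t : Fˣ, t ^ (2 ^ v) = 1 → t ^ 2 = 1 := by
    intro t ht
    have h2 := orderOf_dvd_of_pow_eq_one ht
    obtain ⟨i, hi, ho⟩ := (Nat.dvd_prime_pow Nat.prime_two).1 h2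
    have h4 : orderOf t ∣ Fintype.card F - 1 := by
      rw [← Fintype.card_units]; exact orderOf_dvd_card
    refine orderOf_dvd_iff_pow_eq_one.1 ?_
    rw [ho] at h4 ⊢
    rcases Nat.lt_or_ge i 2 with hi2 | hi2
    · exact (Nat.pow_dvd_pow 2 (Nat.le_of_lt_succ hi2)).trans (by norm_num)
    · exfalso
      have : 2 ^ 2 ∣ Fintype.card F - 1 := (Nat.pow_dvd_pow 2 hi2).trans h4
      omega
  have hnorm : ∀ {e : G2}, e ∈ torusE (F := F) →
      ((e * bar e : G2) : M2) = Matrix.det (e : M2) • (1 : M2) := by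
    intro e he
    have h : Cx (e : M2) := he
    rw [Units.val_mul, bar_val, Matrix.det_fin_two]
    ext i j
    fin_cases i <;> fin_cases j <;> simp [Matrix.mul_apply, Fin.sum_univ_two, h.1, h.2] <;> ring
  have hrefl4 : ∀ {e : G2}, e ∈ Subgroup.zpowers x → (e * refl F) ^ 4 = 1 := by
    intro e he
    have h1 : (e * refl F) ^ 2 = e * bar e := by rw [sq, bar]; group
    have h2 : (Matrix.GeneralLinearGroup.det e) ^ 2 = 1 := hcube _ (by rw [← map_pow, hXpow he, map_one])
    have h2' : (e : M2).det * (e : M2).det = 1 := by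
      rw [← sq]; simpa using congrArg Units.val h2
    rw [show (4 : ℕ) = 2 * 2 from rfl, pow_mul, h1, sq]
    refine Units.ext ?_
    rw [Units.val_mul, hnorm (hXE he), smul_mul_smul_comm, h2', one_smul, one_mul, Units.val_one]
  refine ⟨W, hp, hcard, ⟨-1, hm1, Or.inl rfl⟩, ?_, ?_, ?_⟩
  · rintro _ ⟨e, he, rfl | rfl⟩ h2 hc
    · exact sq_eq_one_E h3 (hXE he) h2
    · exfalso
      have hee : e * bar e = 1 := by rw [← h2, bar]; group
      set t := x * (bar x)⁻¹
      have htE : t ∈ torusE (F := F) := mul_mem hxE (inv_mem (bar_mem hxE))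
      have e1 : x * (e * refl F) * x⁻¹ = e * t * refl F := by
        rw [show x * (e * refl F) * x⁻¹ = x * e * (refl F * x⁻¹) by group, refl_mul, bar_inv,
          comm_E hxE (hXE he)]
        simp only [t, mul_assoc]
      have h := (hc x ⟨x, Subgroup.mem_zpowers x, Or.inl rfl⟩).eq
      rw [e1] at h
      have l1 : e * refl F * (e * t * refl F) = bar t := by
        rw [show e * refl F * (e * t * refl F) = e * (refl F * (e * t) * refl F) by group,
          show refl F * (e * t) * refl F = bar (e * t) from rfl, bar_mul, ← mul_assoc, hee, one_mul]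
      have l2 : e * t * refl F * (e * refl F) = t := by
        rw [show e * t * refl F * (e * refl F) = e * t * (refl F * e * refl F) by group,
          show refl F * e * refl F = bar e from rfl, comm_E (hXE he) htE, mul_assoc, hee, mul_one]
      rw [l1, l2] at h
      simp only [t, bar_mul, bar_inv, bar_bar] at h
      have h4 : bar (x * x) = x * x := by
        rw [bar_mul]
        calc bar x * bar x = (bar x * x⁻¹) * x * bar x := by group
          _ = x * (bar x)⁻¹ * x * bar x := by rw [h]
          _ = x * (bar x)⁻¹ * (bar x * x) := by rw [mul_assoc _ x, comm_E hxE (bar_mem hxE)]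
          _ = x * x := by group
      have h5 : ((x * x : G2) : M2) 1 0 = 0 := by
        have := congrArg (fun g : G2 => (g : M2) 1 0) h4
        simp only [bar_val] at this
        simp at this
        have h6 : (2 : F) * ((x * x : G2) : M2) 1 0 = 0 := by
          rw [Units.val_mul]; linear_combination -this
        exact (mul_eq_zero.1 h6).resolve_left (two_ne h3)
      have hxx : Cx ((x * x : G2) : M2) := mul_mem hxE hxE
      set a := ((x * x : G2) : M2) 0 0
      have hval : ((x * x : G2) : M2) = a • (1 : M2) := by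
        ext i j
        fin_cases i <;> fin_cases j <;> simp [a, hxx.2, h5, ← hxx.1]
      have ha0 : a ≠ 0 := fun h0 => ((Matrix.isUnit_iff_isUnit_det _).1 (x * x).isUnit).ne_zero (by
        rw [hval, h0]; simp [Matrix.det_fin_two])
      have hpw : ∀ k, (((x * x) ^ k : G2) : M2) = a ^ k • (1 : M2) := fun k => by
        rw [Units.val_pow_eq_pow_val, hval, smul_pow, one_pow]
      have ha1 : Units.mk0 a ha0 ^ (2 ^ v) = 1 := by
        refine Units.ext ?_
        have := hpw (2 ^ v)
        rw [← sq, ← pow_mul, mul_comm, pow_mul, hXpow (Subgroup.mem_zpowers x), one_pow] at this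
        simpa using (congrFun (congrFun this 0) 0).symm
      have ha2 : a ^ 2 = 1 := by simpa using congrArg Units.val (hcube _ ha1)
      refine hx4 (Units.ext ?_)
      rw [show (4 : ℕ) = 2 * 2 from rfl, pow_mul, sq x, hpw 2, ha2, one_smul, Units.val_one]
  · refine ⟨x * x, ⟨_, mul_mem (Subgroup.mem_zpowers x) (Subgroup.mem_zpowers x), Or.inl rfl⟩, ?_, ?_⟩
    · rw [map_mul, ← sq]
      exact hcube _ (by rw [← map_pow, hXpow (Subgroup.mem_zpowers x), map_one])
    · intro h; exact hx4 (by rw [← h]; simp only [pow_succ, pow_zero, one_mul, mul_assoc])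
  · intro g hg hgW
    have hgm : g ^ orderOf g = 1 := pow_orderOf_eq_one g
    obtain ⟨e, he, hge⟩ := hgW x ⟨x, Subgroup.mem_zpowers x, Or.inl rfl⟩
    have hge' : g * x * g⁻¹ = e := by
      refine hge.resolve_right fun h => hx4 ?_
      have := hrefl4 he
      rw [← h, conj_pow] at this
      exact conj_eq_one_iff.1 this
    have hb : (x : M2) 1 0 ≠ 0 := by
      intro h0
      have hx' : Cx (x : M2) := hxE
      have hval : (x : M2) = (x : M2) 0 0 • (1 : M2) := by
        ext i j
        fin_cases i <;> fin_cases j <;> simp [hx'.2, h0, ← hx'.1]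
      have hd0 : (x : M2) 0 0 ≠ 0 := fun hz => ((Matrix.isUnit_iff_isUnit_det _).1 x.isUnit).ne_zero (by
        rw [hval, hz]; simp [Matrix.det_fin_two])
      have hpw : ∀ k, ((x ^ k : G2) : M2) = ((x : M2) 0 0) ^ k • (1 : M2) := fun k => by
        rw [Units.val_pow_eq_pow_val, hval, smul_pow, one_pow, ← hval]
      have ha1 : Units.mk0 _ hd0 ^ (2 ^ v) = 1 := by
        refine Units.ext ?_
        have := hpw (2 ^ v)
        rw [hXpow (Subgroup.mem_zpowers x)] at this
        simpa using (congrFun (congrFun this 0) 0).symm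
      have ha2 : ((x : M2) 0 0) ^ 2 = 1 := by simpa using congrArg Units.val (hcube _ ha1)
      refine hx4 (Units.ext ?_)
      rw [show (4 : ℕ) = 2 * 2 from rfl, hpw, pow_mul, ha2, one_pow, one_smul, Units.val_one]
    have hcases : e = x ∨ e = bar x := by
      have hx' : Cx (x : M2) := hxE
      have he' : Cx (e : M2) := hXE he
      have ht : ((e : G2) : M2).trace = (x : M2).trace := by
        rw [← hge', Units.val_mul, Units.val_mul, Matrix.trace_units_conj]
      have hd : ((e : G2) : M2).det = (x : M2).det := by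
        rw [← hge', Units.val_mul, Units.val_mul, Matrix.det_units_conj]
      rw [Matrix.trace_fin_two, Matrix.trace_fin_two, ← he'.1, ← hx'.1] at ht
      have h00 : (e : M2) 0 0 = (x : M2) 0 0 := mul_left_cancel₀ (two_ne h3) (by linear_combination ht)
      rw [Matrix.det_fin_two, Matrix.det_fin_two, ← he'.1, ← hx'.1, he'.2, hx'.2, h00] at hd
      have : ((e : M2) 1 0 - (x : M2) 1 0) * ((e : M2) 1 0 + (x : M2) 1 0) = 0 := by linear_combination hd
      rcases mul_eq_zero.1 this with h | h
      · left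
        rw [sub_eq_zero] at h
        ext i j
        fin_cases i <;> fin_cases j <;> simp [← he'.1, ← hx'.1, he'.2, hx'.2, h00, h]
      · right
        rw [add_eq_zero_iff_eq_neg] at h
        refine Units.ext ?_
        rw [bar_val]
        ext i j
        fin_cases i <;> fin_cases j <;> simp [← he'.1, ← hx'.1, he'.2, hx'.2, h00, h]
    have hcomm : g * x * g⁻¹ = x := by
      rcases hcases with h | h
      · rw [hge', h]
      · -- g squared centralises x
        have hx2 : g * bar x * g⁻¹ = x := by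
          have hn := hnorm hxE
          have hcx : ∀ w : G2, w * (x * bar x) = (x * bar x) * w := fun w => Units.ext (by
            rw [Units.val_mul w, Units.val_mul (x * bar x) w, hn, mul_smul_comm, smul_mul_assoc, mul_one, one_mul])
          have e2 : g * (x * bar x) * g⁻¹ = x * bar x := by rw [hcx, mul_inv_cancel_right]
          have e3 : g * (x * bar x) * g⁻¹ = bar x * (g * bar x * g⁻¹) := by
            rw [← h, ← hge']; group
          rw [e3, comm_E hxE (bar_mem hxE)] at e2
          exact mul_left_cancel e2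
        have hc2 : Commute (g ^ 2) x := by
          have : g ^ 2 * x * (g ^ 2)⁻¹ = x := by
            rw [show g ^ 2 * x * (g ^ 2)⁻¹ = g * (g * x * g⁻¹) * g⁻¹ by simp only [sq, _root_.mul_inv_rev, mul_assoc],
              hge', h, hx2]
          exact mul_inv_eq_iff_eq_mul.1 this
        obtain ⟨k, hk⟩ := hg
        have e : g = (g ^ 2) ^ (k + 1) := by
          rw [← pow_mul, show 2 * (k + 1) = (2 * k + 1) + 1 by ring, ← hk, pow_succ, hgm, one_mul]
        rw [e, ((hc2.pow_left (k + 1)).eq), mul_inv_cancel_right]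
    have hgE : g ∈ torusE (F := F) := by
      have h := congrArg (fun u : G2 => (u : M2)) (mul_inv_eq_iff_eq_mul.1 hcomm)
      simp only [Units.val_mul] at h
      have hx' : Cx (x : M2) := hxE
      have q1 := congrFun (congrFun h 0) 0
      have q2 := congrFun (congrFun h 0) 1
      simp [Matrix.mul_apply, Fin.sum_univ_two, hx'.2, ← hx'.1] at q1 q2
      refine ⟨mul_left_cancel₀ hb (by linear_combination -q2), mul_left_cancel₀ hb (by linear_combination q1)⟩
    obtain ⟨e', he', hy⟩ := hgW (refl F) ⟨1, one_mem _, Or.inr (one_mul _).symm⟩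
    have hgy : g * refl F * g⁻¹ = g * (bar g)⁻¹ * refl F := by
      rw [mul_assoc, refl_mul, bar_inv, mul_assoc]
    rw [hgy] at hy
    have hval : g * (bar g)⁻¹ = e' := by
      rcases hy with h | h
      · exact absurd (by
          rw [show refl F = (g * (bar g)⁻¹)⁻¹ * e' by rw [← h, inv_mul_cancel_left]]
          exact mul_mem (inv_mem (mul_mem hgE (inv_mem (bar_mem hgE)))) (hXE he')) (refl_not_mem h3)
      · exact mul_right_cancel h
    have hpow : e' ^ orderOf g = 1 := by
      rw [← hval, (show Commute g (bar g)⁻¹ from comm_E hgE (inv_mem (bar_mem hgE))).mul_pow, inv_pow,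
        ← bar_pow, hgm, bar_one, inv_one, mul_one]
    have he1 : e' = 1 := by
      have h1 := Nat.dvd_gcd (orderOf_dvd_of_pow_eq_one hpow) (orderOf_dvd_of_pow_eq_one (hXpow he'))
      rw [Nat.Coprime.gcd_eq_one (Nat.Coprime.pow_right v (Nat.coprime_two_right.2 hg))] at h1
      exact orderOf_eq_one_iff.1 (Nat.dvd_one.1 h1)
    rw [he1, mul_inv_eq_one] at hval
    have hg' : Cx (g : M2) := hgE
    have h10 : (g : M2) 1 0 = 0 := by
      have := congrArg (fun u : G2 => (u : M2) 1 0) hval
      simp only [bar_val] at this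
      simp at this
      exact (mul_eq_zero.1 (show (2 : F) * (g : M2) 1 0 = 0 by linear_combination this)).resolve_left (two_ne h3)
    refine Subgroup.mem_center_iff.2 fun w => Units.ext ?_
    have hgv : (g : M2) = (g : M2) 0 0 • (1 : M2) := by
      ext i j
      fin_cases i <;> fin_cases j <;> simp [hg'.2, h10, ← hg'.1]
    rw [Units.val_mul, Units.val_mul, hgv, mul_smul_comm, smul_mul_assoc, mul_one, one_mul]

end Cfsg.Agent.OddPro.GLTwo
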