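/-
The semidihedral Sylow 2-subgroup of GU(2,q), q ≡ 1 (mod 4), in hyperbolic coordinates.
-/
import Mathlib.LinearAlgebra.Matrix.GeneralLinearGroup.Card
import Mathlib.RingTheory.IntegralDomain
import Mathlib.GroupTheory.Sylow
import Mathlib.NumberTheory.Multiplicity
import Mathlib.FieldTheory.Finite.Basic
import Mathlib.Tactic

set_option autoImplicit false

namespace Cfsg.Agent.OddPro.GUTwo

open Matrix

variable {F : Type*} [Field F] [Fintype F]

local notation "G2" => GL (Fin 2) F
local notation "M2" => Matrix (Fin 2) (Fin 2) F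

/-- Diagonal. -/
def dg : Fˣ × Fˣ →* G2 where
  toFun p := Matrix.GeneralLinearGroup.mkOfDetNeZero !![(p.1 : F), 0; 0, (p.2 : F)] (by simp [Matrix.det_fin_two])
  map_one' := Units.ext (by
    ext i j
    fin_cases i <;> fin_cases j <;> simp [Matrix.GeneralLinearGroup.mkOfDetNeZero])
  map_mul' a b := Units.ext (by
    ext i j
    fin_cases i <;> fin_cases j <;>
      simp [Matrix.GeneralLinearGroup.mkOfDetNeZero, Matrix.mul_apply, Fin.sum_univ_two])

theorem dg_val (a b : Fˣ) : ((dg (a, b) : G2) : M2) = !![(a : F), 0; 0, (b : F)] := rfl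

theorem dg_injective : Function.Injective (dg (F := F)) := by
  rintro ⟨a, b⟩ ⟨c, d⟩ h
  have h' := congrArg (fun g : G2 => (g : M2)) h
  simp only [dg_val] at h'
  refine Prod.ext (Units.ext ?_) (Units.ext ?_)
  · simpa using congrFun (congrFun h' 0) 0
  · simpa using congrFun (congrFun h' 1) 1

variable (F) in
/-- The swap. -/
def sw : G2 := Matrix.GeneralLinearGroup.mkOfDetNeZero !![0, 1; 1, 0] (by simp [Matrix.det_fin_two])

theorem sw_val : ((sw F : G2) : M2) = !![0, 1; 1, 0] := rfl

theorem sw_mul_self : sw F * sw F = 1 := by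
  ext i j
  fin_cases i <;> fin_cases j <;> simp [sw_val, Matrix.mul_apply, Fin.sum_univ_two]

theorem sw_inv : (sw F)⁻¹ = sw F := inv_eq_of_mul_eq_one_right sw_mul_self

theorem sw_dg (a b : Fˣ) : sw F * dg (a, b) = dg (b, a) * sw F := by
  ext i j
  fin_cases i <;> fin_cases j <;> simp [sw_val, dg_val, Matrix.mul_apply, Fin.sum_univ_two]

/-- The properties needed of a Sylow 2-subgroup of GU(2,q). -/
theorem exists_sylow {q : ℕ} (hF : Fintype.card F = q ^ 2) (h1 : q % 4 = 1) :
    ∃ W : Subgroup G2, IsPGroup 2 W ∧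
    (∀ w ∈ W, ((w : M2).map (fun x => x ^ q)).transpose * !![0, 1; 1, 0] * (w : M2) = !![0, 1; 1, 0]) ∧
    Nat.card W = 2 * 2 ^ padicValNat 2 (q ^ 2 - 1) ∧ (-1 : G2) ∈ W ∧
    (∀ a ∈ W, a * a = 1 → (∀ w ∈ W, Commute a (w * a * w⁻¹)) → a = 1 ∨ a = -1) ∧
    (∃ u ∈ W, Matrix.GeneralLinearGroup.det u = 1 ∧ u * u ≠ 1) ∧
    (∀ g : G2, Odd (orderOf g) → (∀ w ∈ W, g * w * g⁻¹ ∈ W) → g ∈ Subgroup.center G2) ∧
    (∀ g : G2, (∀ w ∈ W, g * w = w * g) → g ∈ Subgroup.center G2) := by
  classical
  have : Fact (Nat.Prime 2) := ⟨Nat.prime_two⟩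
  set v := padicValNat 2 (q ^ 2 - 1) with hv
  have hq5 : 5 ≤ q := by
    rcases Nat.lt_or_ge q 5 with h | h
    · exfalso
      have := Fintype.one_lt_card (α := F)
      interval_cases q <;> omega
    · exact h
  have hne : q ^ 2 - 1 ≠ 0 := by
    have : 5 * 5 ≤ q * q := Nat.mul_le_mul hq5 hq5
    rw [sq]; omega
  obtain ⟨r, hr⟩ : ∃ r, q = 4 * r + 1 := ⟨q / 4, by omega⟩
  have hv3 : 3 ≤ v := by
    refine (padicValNat_dvd_iff_le hne).1 ⟨r * (2 * r + 1), ?_⟩
    rw [hr, show (4 * r + 1) ^ 2 = 8 * (r * (2 * r + 1)) + 1 by ring]; simp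
  -- `2 ^ (v - 1)` divides `q - 1`
  obtain ⟨c, hc⟩ : 2 ^ v ∣ q ^ 2 - 1 := pow_padicValNat_dvd
  have hvq : v = padicValNat 2 (q - 1) + 1 := by
    rw [hv, show q ^ 2 - 1 = (q + 1) * (q - 1) by rw [← Nat.sq_sub_sq, one_pow],
      padicValNat.mul (by omega) (by omega)]
    have : padicValNat 2 (q + 1) = 1 := by
      rw [show q + 1 = 2 * (2 * r + 1) by omega, padicValNat.mul two_ne_zero (by omega), padicValNat_self,
        padicValNat.eq_zero_of_not_dvd (by omega)]
    omega
  have hd1 : 2 ^ (v - 1) ∣ q - 1 := by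
    rw [hvq, Nat.add_sub_cancel]; exact pow_padicValNat_dvd
  obtain ⟨gF, hgF⟩ := IsCyclic.exists_generator (α := Fˣ)
  have hgo : orderOf gF = q ^ 2 - 1 := by
    rw [orderOf_eq_card_of_forall_mem_zpowers hgF, Nat.card_eq_fintype_card, Fintype.card_units, hF]
  set lam : Fˣ := gF ^ ((q ^ 2 - 1) / 2 ^ v) with hlam
  have hlo : orderOf lam = 2 ^ v := by
    have hd : 2 ^ v ∣ q ^ 2 - 1 := pow_padicValNat_dvd
    rw [hlam, orderOf_pow, hgo, Nat.gcd_eq_right (Nat.div_dvd_of_dvd hd), Nat.div_div_self hd hne]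
  -- conjugate inverse
  let φ : Fˣ →* Fˣ := (powMonoidHom q).comp (invMonoidHom)
  have hφ : ∀ a, φ a = (a⁻¹) ^ q := fun a => rfl
  have hsmall : ∀ a : Fˣ, a ∈ Subgroup.zpowers lam → (a * φ a) ^ 2 = 1 := by
    intro a ha
    have h0 : a ^ (2 ^ v) = 1 := by
      obtain ⟨k, rfl⟩ := ha
      simp only
      rw [← zpow_natCast, ← _root_.zpow_mul, mul_comm, _root_.zpow_mul, zpow_natCast, ← hlo, pow_orderOf_eq_one,
        _root_.one_zpow]
    have h1 : a ^ ((q - 1) * 2) = 1 := by
      obtain ⟨e, he⟩ := hd1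
      rw [he, show 2 ^ (v - 1) * e * 2 = 2 ^ v * e by
        rw [show 2 ^ v = 2 ^ (v - 1) * 2 by rw [← pow_succ]; congr 1; omega]; ring, pow_mul, h0, one_pow]
    rw [hφ, inv_pow, show a ^ q = a ^ (q - 1) * a by rw [← pow_succ]; congr 1; omega, _root_.mul_inv_rev,
      ← mul_assoc, mul_inv_cancel, one_mul, inv_pow, ← pow_mul, h1, inv_one]
  have hφφ : ∀ a ∈ Subgroup.zpowers lam, φ (φ a) = a := by
    intro a ha
    rw [hφ, hφ, ← inv_pow, inv_inv, ← pow_mul]
    have : a ^ (q ^ 2 - 1) = 1 := by
      rw [← hF, ← Fintype.card_units]; exact pow_card_eq_one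
    rw [show q * q = q ^ 2 - 1 + 1 by rw [Nat.sub_add_cancel (by nlinarith)]; ring, pow_succ, this, one_mul]
  have hφmem : ∀ a ∈ Subgroup.zpowers lam, φ a ∈ Subgroup.zpowers lam := fun a ha => by
    rw [hφ]; exact pow_mem (inv_mem ha) q
  let d : Fˣ → G2 := fun a => dg (a, φ a)
  have hdm : ∀ a b, d a * d b = d (a * b) := fun a b => by
    simp only [d]; rw [← map_mul, map_mul φ]; rfl
  have hdsw : ∀ a ∈ Subgroup.zpowers lam, sw F * d a = d (φ a) * sw F := fun a ha => by
    simp only [d]; rw [sw_dg, hφφ a ha]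
  let W : Subgroup G2 :=
    { carrier := {g | ∃ a ∈ Subgroup.zpowers lam, g = d a ∨ g = d a * sw F}
      one_mem' := ⟨1, one_mem _, Or.inl (show (1 : G2) = dg (1, φ 1) by rw [map_one φ]; exact (map_one dg).symm)⟩
      mul_mem' := by
        rintro _ _ ⟨a, ha, ha'⟩ ⟨b, hb, hb'⟩
        rcases ha' with rfl | rfl <;> rcases hb' with rfl | rfl
        · exact ⟨_, mul_mem ha hb, Or.inl (hdm a b)⟩
        · exact ⟨_, mul_mem ha hb, Or.inr (by rw [← mul_assoc, hdm])⟩
        · exact ⟨_, mul_mem ha (hφmem b hb), Or.inr (by rw [mul_assoc, hdsw b hb, ← mul_assoc, hdm])⟩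
        · exact ⟨_, mul_mem ha (hφmem b hb), Or.inl (by
            rw [mul_assoc, ← mul_assoc (sw F), hdsw b hb, mul_assoc _ (sw F), sw_mul_self, mul_one, hdm])⟩
      inv_mem' := by
        rintro _ ⟨a, ha, rfl | rfl⟩
        · refine ⟨a⁻¹, inv_mem ha, Or.inl ?_⟩
          simp only [d]; rw [← map_inv, map_inv φ]; rfl
        · refine ⟨φ a⁻¹, hφmem _ (inv_mem ha), Or.inr ?_⟩
          rw [_root_.mul_inv_rev, sw_inv, ← hdsw _ (inv_mem ha)]
          congr 1
          simp only [d]; rw [← map_inv, map_inv φ]; rfl }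
  have hno : ∀ a b : Fˣ, d a * sw F ≠ d b := by
    intro a b h
    have := congrArg (fun g : G2 => (g : M2) 0 0) h
    simp [d, dg_val, sw_val, Matrix.mul_apply, Fin.sum_univ_two] at this
    exact b.ne_zero this.symm
  have hdinj : ∀ a b, d a = d b → a = b := fun a b h => (Prod.ext_iff.1 (dg_injective h)).1
  have hcard : Nat.card W = 2 * 2 ^ v := by
    let f : Subgroup.zpowers lam × Bool → W := fun p =>
      ⟨if p.2 then d p.1 * sw F else d p.1, p.1, p.1.2, by cases p.2 <;> simp⟩
    have hf : Function.Bijective f := by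
      refine ⟨?_, ?_⟩
      · rintro ⟨a, b⟩ ⟨a', b'⟩ h
        have h' := congrArg Subtype.val h
        cases b <;> cases b' <;> simp [f] at h'
        · rw [Prod.mk.injEq]; exact ⟨Subtype.ext (hdinj _ _ h'), rfl⟩
        · exact absurd h'.symm (hno _ _)
        · exact absurd h' (hno _ _)
        · rw [Prod.mk.injEq]; exact ⟨Subtype.ext (hdinj _ _ h'), rfl⟩
      · rintro ⟨g, a, ha, rfl | rfl⟩
        · exact ⟨(⟨_, ha⟩, false), rfl⟩
        · exact ⟨(⟨_, ha⟩, true), rfl⟩
    rw [← Nat.card_congr (Equiv.ofBijective f hf), Nat.card_prod, Nat.card_zpowers, hlo,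
      Nat.card_eq_fintype_card (α := Bool), Fintype.card_bool, mul_comm]
  have hp : IsPGroup 2 W := IsPGroup.of_card (n := v + 1) (by rw [hcard, pow_succ, mul_comm])
  have hl4 : lam ^ 4 ≠ 1 := fun h => by
    have := orderOf_dvd_of_pow_eq_one h
    rw [hlo] at this
    have := Nat.le_of_dvd (by norm_num) this
    have : 2 ^ 3 ≤ 2 ^ v := Nat.pow_le_pow_right two_pos hv3
    omega
  have hsq : ∀ a ∈ Subgroup.zpowers lam, (d a * sw F) ^ 4 = 1 := by
    intro a ha
    have e : (d a * sw F) ^ 2 = dg (a * φ a, a * φ a) := by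
      rw [sq, show d a * sw F * (d a * sw F) = d a * (sw F * d a) * sw F by simp only [mul_assoc],
        hdsw a ha, show d a * (d (φ a) * sw F) * sw F = d a * d (φ a) * (sw F * sw F) by simp only [mul_assoc],
        sw_mul_self, mul_one]
      simp only [d]
      rw [← map_mul, hφφ a ha, Prod.mk_mul_mk, mul_comm (φ a) a]
    rw [show (4 : ℕ) = 2 * 2 from rfl, pow_mul, e, ← map_pow, Prod.pow_mk, hsmall a ha]
    exact map_one dg
  have hm1 : (-1 : G2) ∈ W := by
    refine ⟨lam ^ (2 ^ (v - 1)), pow_mem (Subgroup.mem_zpowers _) _, Or.inl ?_⟩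
    have hneg : lam ^ (2 ^ (v - 1)) = -1 := by
      have h2 : (lam ^ (2 ^ (v - 1))) ^ 2 = 1 := by
        rw [← pow_mul, ← pow_succ, show v - 1 + 1 = v by omega, ← hlo, pow_orderOf_eq_one]
      have h3 : lam ^ (2 ^ (v - 1)) ≠ 1 := fun h => by
        have := Nat.le_of_dvd (by positivity) (orderOf_dvd_of_pow_eq_one h)
        rw [hlo] at this
        have : 2 ^ (v - 1) < 2 ^ v := Nat.pow_lt_pow_right (by norm_num) (by omega)
        omega
      have h2' : ((lam ^ (2 ^ (v - 1)) : Fˣ) : F) * (lam ^ (2 ^ (v - 1)) : Fˣ) = 1 := by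
        rw [← Units.val_mul, ← sq, h2, Units.val_one]
      rcases mul_self_eq_one_iff.1 h2' with h | h
      · exact absurd (Units.ext h) h3
      · exact Units.ext (by rw [h]; simp)
    rw [hneg]
    refine Units.ext ?_
    show ((-1 : G2) : M2) = !![((-1 : Fˣ) : F), 0; 0, (φ (-1) : F)]
    have : φ (-1) = -1 := by
      rw [hφ, inv_neg_one]
      exact Odd.neg_one_pow (Nat.odd_iff.2 (by omega))
    rw [this]
    ext i j
    fin_cases i <;> fin_cases j <;> simp
  refine ⟨W, hp, ?_, hcard, hm1, ?_, ?_, ?_, ?_⟩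
  · have hd : ∀ a : Fˣ, ((d a : M2).map (fun x => x ^ q)).transpose * !![0, 1; 1, 0] * (d a : M2) =
        (!![0, ((a : F) ^ q) * (φ a : F); ((φ a : F) ^ q) * a, 0] : M2) := by
      intro a
      simp only [d, dg_val]
      ext i j
      fin_cases i <;> fin_cases j <;> simp [Matrix.mul_apply, Fin.sum_univ_two, zero_pow (show q ≠ 0 by omega)]
    have hone : ∀ a ∈ Subgroup.zpowers lam,
        ((d a : M2).map (fun x => x ^ q)).transpose * !![0, 1; 1, 0] * (d a : M2) = (!![0, 1; 1, 0] : M2) := by
      intro a ha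
      rw [hd]
      have e1 : ((a : F) ^ q) * (φ a : F) = 1 := by
        rw [hφ, ← Units.val_pow_eq_pow_val, ← Units.val_mul, ← mul_pow, mul_inv_cancel, one_pow, Units.val_one]
      have e2 : ((φ a : F) ^ q) * a = 1 := by
        have h := hφφ a ha
        rw [hφ (φ a)] at h
        rw [← Units.val_pow_eq_pow_val, ← Units.val_mul]
        nth_rw 2 [← h]
        rw [← mul_pow, mul_inv_cancel, one_pow, Units.val_one]
      rw [e1, e2]
    rintro _ ⟨a, ha, rfl | rfl⟩
    · exact hone a ha
    · rw [Units.val_mul]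
      have hmap : ((d a : M2) * (sw F : M2)).map (fun x => x ^ q) =
          (d a : M2).map (fun x => x ^ q) * (sw F : M2) := by
        simp only [d, dg_val, sw_val]
        ext i j
        fin_cases i <;> fin_cases j <;>
          simp [Matrix.mul_apply, Fin.sum_univ_two, zero_pow (show q ≠ 0 by omega)]
      rw [hmap, Matrix.transpose_mul]
      calc (sw F : M2).transpose * ((d a : M2).map fun x => x ^ q).transpose * !![0, 1; 1, 0] *
              ((d a : M2) * (sw F : M2))
          = (sw F : M2).transpose * (((d a : M2).map fun x => x ^ q).transpose * !![0, 1; 1, 0] * (d a : M2)) *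
              (sw F : M2) := by simp only [Matrix.mul_assoc]
        _ = !![0, 1; 1, 0] := by
            rw [hone a ha, sw_val]
            ext i j
            fin_cases i <;> fin_cases j <;> simp [Matrix.mul_apply, Fin.sum_univ_two]
  · rintro _ ⟨a, ha, rfl | rfl⟩ h2 hcm
    · rw [hdm] at h2
      have : a * a = 1 := hdinj _ 1 (by rw [h2]; simp only [d]; rw [map_one φ]; exact (map_one dg).symm)
      rcases mul_self_eq_one_iff.1 (by simpa using congrArg Units.val this : (a : F) * a = 1) with e | e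
      · left
        rw [show a = 1 from Units.ext e]
        simp only [d]; rw [map_one φ]; exact map_one dg
      · right
        rw [show a = -1 from Units.ext (by rw [e]; simp)]
        refine Units.ext ?_
        show (!![((-1 : Fˣ) : F), 0; 0, (φ (-1) : F)] : M2) = ((-1 : G2) : M2)
        rw [hφ, inv_neg_one, Odd.neg_one_pow (Nat.odd_iff.2 (by omega : q % 2 = 1))]
        ext i j
        fin_cases i <;> fin_cases j <;> simp
    · exfalso
      set t := lam * (φ lam)⁻¹
      have htm : t ∈ Subgroup.zpowers lam := mul_mem (Subgroup.mem_zpowers _) (inv_mem (hφmem _ (Subgroup.mem_zpowers _)))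
      have e1 : d lam * (d a * sw F) * (d lam)⁻¹ = d (a * t) * sw F := by
        rw [mul_inv_eq_iff_eq_mul, mul_assoc (d (a * t)), hdsw _ (Subgroup.mem_zpowers _), ← mul_assoc, ← mul_assoc,
          hdm, hdm]
        congr 2
        simp only [t]
        rw [mul_assoc a, inv_mul_cancel_right, mul_comm]
      have h := (hcm (d lam) ⟨lam, Subgroup.mem_zpowers _, Or.inl rfl⟩).eq
      rw [e1] at h
      have hat : a * t ∈ Subgroup.zpowers lam := mul_mem ha htm
      rw [show d a * sw F * (d (a * t) * sw F) = d a * (sw F * d (a * t)) * sw F by simp only [mul_assoc],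
        hdsw _ hat, show d (a * t) * sw F * (d a * sw F) = d (a * t) * (sw F * d a) * sw F by simp only [mul_assoc],
        hdsw _ ha] at h
      simp only [← mul_assoc, hdm] at h
      have h5 := hdinj _ _ (mul_right_cancel (mul_right_cancel h))
      rw [map_mul, mul_comm (φ a) (φ t), ← mul_assoc, mul_assoc a t, mul_comm t] at h5
      have h6 : a * (φ t * φ a) = a * (φ a * t) := by rw [← mul_assoc]; exact h5
      rw [mul_comm (φ a) t] at h6
      have h7 : φ t = t := mul_right_cancel (mul_left_cancel h6)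
      have h8 : φ t = t⁻¹ := by
        simp only [t, map_mul, map_inv, hφφ _ (Subgroup.mem_zpowers _), mul_inv, inv_inv, mul_comm]
      have h9 : t * t = 1 := by
        have := h7.symm.trans h8
        nth_rw 2 [this]
        exact mul_inv_cancel t
      apply hl4
      have hs := hsmall lam (Subgroup.mem_zpowers _)
      calc lam ^ 4 = (t * t) * (lam * φ lam) ^ 2 := by
            rw [← sq t, ← mul_pow, show t * (lam * φ lam) = lam * lam by
              simp only [t]; rw [mul_mul_mul_comm, inv_mul_cancel, mul_one]]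
            rw [sq (lam * lam), ← mul_assoc]
            simp only [pow_succ, pow_zero, one_mul]
        _ = 1 := by rw [h9, hs, mul_one]
  · refine ⟨d (lam * lam), ⟨_, mul_mem (Subgroup.mem_zpowers _) (Subgroup.mem_zpowers _), Or.inl rfl⟩, ?_, ?_⟩
    · refine Units.ext ?_
      show (!![((lam * lam : Fˣ) : F), 0; 0, (φ (lam * lam) : F)] : M2).det = 1
      rw [Matrix.det_fin_two]
      have := congrArg Units.val (hsmall lam (Subgroup.mem_zpowers _))
      simp [sq] at this ⊢
      rw [← this]; ring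
    · intro h
      rw [hdm] at h
      refine hl4 ?_
      have := hdinj _ 1 (by rw [h]; simp only [d]; rw [map_one φ]; exact (map_one dg).symm)
      rw [← this]
      simp [pow_succ, mul_assoc]
  · intro g hg hgW
    have hgm : g ^ orderOf g = 1 := pow_orderOf_eq_one g
    obtain ⟨a, ha, hga⟩ := hgW (d lam) ⟨lam, Subgroup.mem_zpowers _, Or.inl rfl⟩
    have hga' : g * d lam * g⁻¹ = d a := by
      refine hga.resolve_right fun h => hl4 ?_
      have h4 := hsq a ha
      rw [← h, conj_pow] at h4
      have h5 : d lam ^ 4 = 1 := conj_eq_one_iff.1 h4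
      simp only [d] at h5
      rw [← map_pow] at h5
      have := (Prod.ext_iff.1 (dg_injective (h5.trans (map_one dg).symm))).1
      simpa using this
    have hne2 : (lam : F) ≠ (φ lam : F) := fun h => by
      have he : lam = φ lam := Units.ext h
      have := hsmall lam (Subgroup.mem_zpowers _)
      rw [← he, ← sq, ← pow_mul] at this
      exact hl4 this
    have hval := congrArg (fun u : G2 => (u : M2)) (mul_inv_eq_iff_eq_mul.1 hga')
    simp only [Units.val_mul, d, dg_val] at hval
    have e00 := congrFun (congrFun hval 0) 0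
    have e01 := congrFun (congrFun hval 0) 1
    have e10 := congrFun (congrFun hval 1) 0
    have e11 := congrFun (congrFun hval 1) 1
    simp [Matrix.mul_apply, Fin.sum_univ_two] at e00 e01 e10 e11
    have hdet : (g : M2) 0 0 * (g : M2) 1 1 - (g : M2) 0 1 * (g : M2) 1 0 ≠ 0 := by
      rw [← Matrix.det_fin_two]; exact ((Matrix.isUnit_iff_isUnit_det _).1 g.isUnit).ne_zero
    have hdiag2 : (g : M2) 0 1 = 0 ∧ (g : M2) 1 0 = 0 := by
      -- the antidiagonal case has even order
      by_cases h00 : (g : M2) 0 0 = 0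
      · exfalso
        rw [h00, zero_mul, zero_sub, neg_ne_zero] at hdet
        obtain ⟨n01, n10⟩ := mul_ne_zero_iff.1 hdet
        have ea : (a : F) = (φ lam : F) := mul_right_cancel₀ n01 (by linear_combination -e01)
        have eb : (φ a : F) = (lam : F) := mul_right_cancel₀ n10 (by linear_combination -e10)
        have h11 : (g : M2) 1 1 = 0 := by
          have : ((φ lam : F) - lam) * (g : M2) 1 1 = 0 := by rw [← eb] at hne2 ⊢; linear_combination e11
          exact (mul_eq_zero.1 this).resolve_left (sub_ne_zero.2 (Ne.symm hne2))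
        obtain ⟨k, hk⟩ := hg
        have hpow : ∀ j : ℕ, ((g ^ (2 * j) : G2) : M2) 0 1 = 0 ∧ ((g ^ (2 * j) : G2) : M2) 1 0 = 0 := by
          intro j
          induction j with
          | zero => simp
          | succ j ih =>
            have i1 := ih.1
            have i2 := ih.2
            rw [Units.val_pow_eq_pow_val] at i1 i2
            rw [show 2 * (j + 1) = 2 * j + 1 + 1 by ring, pow_succ, pow_succ]
            simp [Matrix.mul_apply, Fin.sum_univ_two, i1, i2, h00, h11]
        have h0 : ((g ^ orderOf g : G2) : M2) 0 0 = 0 := by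
          have i1 := (hpow k).1
          rw [Units.val_pow_eq_pow_val] at i1
          rw [hk, pow_succ]
          simp [Matrix.mul_apply, Fin.sum_univ_two, i1, h00]
        rw [hgm] at h0
        simp at h0
      · have ea : (a : F) = (lam : F) := mul_right_cancel₀ h00 (by linear_combination -e00)
        have eb : (φ a : F) = (φ lam : F) := by rw [show a = lam from Units.ext ea]
        rw [ea] at e01
        rw [eb] at e10
        refine ⟨?_, ?_⟩
        · have : ((φ lam : F) - lam) * (g : M2) 0 1 = 0 := by linear_combination e01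
          exact (mul_eq_zero.1 this).resolve_left (sub_ne_zero.2 (Ne.symm hne2))
        · have : ((lam : F) - φ lam) * (g : M2) 1 0 = 0 := by linear_combination e10
          exact (mul_eq_zero.1 this).resolve_left (sub_ne_zero.2 hne2)
    rw [hdiag2.1, hdiag2.2, mul_zero, sub_zero] at hdet
    obtain ⟨n00, n11⟩ := mul_ne_zero_iff.1 hdet
    set p := Units.mk0 _ n00
    set s := Units.mk0 _ n11
    have hgd : g = dg (p, s) := by
      refine Units.ext ?_
      rw [dg_val]
      ext i j
      fin_cases i <;> fin_cases j <;> simp [p, s, hdiag2.1, hdiag2.2]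
    rw [hgd] at hgm hgW hg
    obtain ⟨b, hb, hgb⟩ := hgW (sw F) ⟨1, one_mem _, Or.inr (by
      simp only [d]; rw [map_one φ]; exact (by rw [show dg ((1 : Fˣ), (1 : Fˣ)) = (1 : G2) from map_one dg, one_mul]))⟩
    have e : dg (p, s) * sw F * (dg (p, s))⁻¹ = dg (p * s⁻¹, s * p⁻¹) * sw F := by
      rw [← map_inv, mul_assoc, show ((p, s) : Fˣ × Fˣ)⁻¹ = (p⁻¹, s⁻¹) from rfl, sw_dg, ← mul_assoc, ← map_mul]
      rfl
    rw [e] at hgb
    rcases hgb with hgb | hgb
    · exfalso
      have := congrArg (fun u : G2 => (u : M2) 0 0) hgb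
      simp [d, dg_val, sw_val, Matrix.mul_apply, Fin.sum_univ_two] at this
      exact b.ne_zero this.symm
    · have hb' : b = p * s⁻¹ := (Prod.ext_iff.1 (dg_injective (mul_right_cancel hgb))).1.symm
      rw [← map_pow] at hgm
      have hps := Prod.ext_iff.1 (dg_injective (hgm.trans (map_one dg).symm))
      simp only [Prod.pow_fst, Prod.pow_snd, Prod.fst_one, Prod.snd_one] at hps
      have hpow : b ^ orderOf (dg (p, s)) = 1 := by rw [hb', mul_pow, inv_pow, hps.1, hps.2, inv_one, mul_one]
      have hb2 : b ^ (2 ^ v) = 1 := by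
        obtain ⟨k, hk⟩ := hb
        simp only at hk
        rw [← hk, ← zpow_natCast, ← _root_.zpow_mul, mul_comm, _root_.zpow_mul, zpow_natCast, ← hlo,
          pow_orderOf_eq_one, _root_.one_zpow]
      have hb1 : b = 1 := by
        have h1 := Nat.dvd_gcd (orderOf_dvd_of_pow_eq_one hpow) (orderOf_dvd_of_pow_eq_one hb2)
        rw [Nat.Coprime.gcd_eq_one (Nat.Coprime.pow_right v (Nat.coprime_two_right.2 hg))] at h1
        exact orderOf_eq_one_iff.1 (Nat.dvd_one.1 h1)
      rw [hb1] at hb'
      have hpsEq : p = s := (mul_inv_eq_one.1 hb'.symm)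
      rw [hgd, ← hpsEq]
      refine Subgroup.mem_center_iff.2 fun w => Units.ext ?_
      rw [Units.val_mul, Units.val_mul, dg_val]
      ext i j
      fin_cases i <;> fin_cases j <;> simp [Matrix.mul_apply, Fin.sum_univ_two] <;> ring
  · intro g hg
    have h1 := congrArg (fun u : G2 => (u : M2)) (hg (d lam) ⟨lam, Subgroup.mem_zpowers _, Or.inl rfl⟩)
    have h2 := congrArg (fun u : G2 => (u : M2)) (hg (sw F) ⟨1, one_mem _, Or.inr (by
      show sw F = dg (1, φ 1) * sw F
      rw [map_one φ, show dg ((1 : Fˣ), (1 : Fˣ)) = (1 : G2) from map_one dg, one_mul])⟩)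
    have hne2 : (lam : F) ≠ (φ lam : F) := fun h => by
      have he : lam = φ lam := Units.ext h
      have := hsmall lam (Subgroup.mem_zpowers _)
      rw [← he, ← sq, ← pow_mul] at this
      exact hl4 this
    simp only [Units.val_mul, d, dg_val, sw_val] at h1 h2
    have e01 := congrFun (congrFun h1 0) 1
    have e10 := congrFun (congrFun h1 1) 0
    have f01 := congrFun (congrFun h2 0) 1
    simp [Matrix.mul_apply, Fin.sum_univ_two] at e01 e10 f01
    have z01 : (g : M2) 0 1 = 0 := by
      have : ((φ lam : F) - lam) * (g : M2) 0 1 = 0 := by linear_combination e01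
      exact (mul_eq_zero.1 this).resolve_left (sub_ne_zero.2 (Ne.symm hne2))
    have z10 : (g : M2) 1 0 = 0 := by
      have : ((lam : F) - φ lam) * (g : M2) 1 0 = 0 := by linear_combination e10
      exact (mul_eq_zero.1 this).resolve_left (sub_ne_zero.2 hne2)
    refine Subgroup.mem_center_iff.2 fun w => Units.ext ?_
    rw [Units.val_mul, Units.val_mul]
    ext i j
    fin_cases i <;> fin_cases j <;> simp [Matrix.mul_apply, Fin.sum_univ_two, z01, z10, f01] <;> ring

end Cfsg.Agent.OddPro.GUTwo
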