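/-
Elements of odd order normalising the determinant one part of a wreath type 2-group are central.
-/
import Cfsg.Agent.Lib.Blocks.SylowTwoWreath

set_option autoImplicit false

namespace Cfsg.Agent.OddPro

open SylTwoWreath

variable {G A Zd : Type*} [Group G] [Group A] [CommGroup Zd] {ι : Type*} [Fintype ι] [DecidableEq ι]

/-- A vector of central signs of determinant one. -/
def SignVec (δ : A →* Zd) (z : A) (ε : ι → A) : Prop := (∀ i, ε i = 1 ∨ ε i = z) ∧ ∏ i, δ (ε i) = 1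

/-- The hypotheses on the wreath data. -/
structure Setup (d : Data G A PUnit.{1} ι) (det : G →* Zd) (δ : A →* Zd) (W : Subgroup A)
    (T : Subgroup (Equiv.Perm ι)) (z : A) : Prop where
  det_D : ∀ v, det (d.D v) = ∏ i, δ (v i)
  two : ∀ i : ι, ∃ j, j ≠ i
  pW : IsPGroup 2 W
  zW : z ∈ W
  zc : z ∈ Subgroup.center A
  z2 : z * z = 1
  invol : ∀ a ∈ W, a * a = 1 → (∀ w ∈ W, Commute a (w * a * w⁻¹)) → a = 1 ∨ a = z
  move : ∀ k l : ι, k ≠ l → ∃ v : ι → A, (∀ i, v i ∈ W) ∧ ∏ i, δ (v i) = 1 ∧ v l = 1 ∧ v k * v k ≠ 1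
  norm : ∀ g : G, (∀ ε, SignVec δ z ε → ∃ ε', SignVec δ z ε' ∧ g * d.D ε = d.D ε' * g) →
    ∃ v σ, g = d.D v * d.perm σ
  cent : ∀ a : A, Odd (orderOf a) → (∀ w ∈ W, a * w * a⁻¹ ∈ W) → a ∈ Subgroup.center A
  pT : IsPGroup 2 T
  nT : ∀ σ, (∀ τ ∈ T, σ * τ * σ⁻¹ ∈ T) → σ ∈ T
  tT : ∀ i j : ι, ∃ τ ∈ T, τ i = j
  lift : ∀ τ ∈ T, ∃ v : ι → A, (∀ i, v i ∈ W) ∧ d.D v * d.perm τ ∈ det.ker

variable {d : Data G A PUnit.{1} ι}

theorem mul_pair (v w : ι → A) (σ τ : Equiv.Perm ι) :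
    d.D v * d.perm σ * (d.D w * d.perm τ) = d.D (v * (w ∘ σ.symm)) * d.perm (σ * τ) := by
  rw [map_mul, map_mul, mul_assoc, ← mul_assoc (d.perm σ), d.conj]
  simp only [mul_assoc]

theorem inv_pair (v : ι → A) (σ : Equiv.Perm ι) :
    (d.D v * d.perm σ)⁻¹ = d.D (v⁻¹ ∘ σ) * d.perm σ⁻¹ := by
  rw [inv_eq_iff_mul_eq_one, mul_pair, mul_inv_cancel, map_one, mul_one]
  have : v * ((v⁻¹ ∘ σ) ∘ σ.symm) = 1 := funext fun i => by simp
  rw [this, map_one]

theorem pow_pair (v : ι → A) (σ : Equiv.Perm ι) (k : ℕ) :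
    ∃ w, (d.D v * d.perm σ) ^ k = d.D w * d.perm (σ ^ k) := by
  induction k with
  | zero => exact ⟨1, by simp⟩
  | succ k ih =>
    obtain ⟨w, hw⟩ := ih
    exact ⟨_, by rw [pow_succ, hw, mul_pair, ← pow_succ]⟩

theorem eq_one_of_odd {M : Type*} [Group M] {P : Subgroup M} (hP : IsPGroup 2 P) {x : M} (hx : x ∈ P)
    {m : ℕ} (hm : Odd m) (h : x ^ m = 1) : x = 1 := by
  obtain ⟨k, hk⟩ := hP ⟨x, hx⟩
  have hk' : x ^ (2 ^ k) = 1 := congrArg Subtype.val hk
  have h1 := Nat.dvd_gcd (orderOf_dvd_of_pow_eq_one h) (orderOf_dvd_of_pow_eq_one hk')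
  rw [Nat.Coprime.gcd_eq_one (Nat.Coprime.pow_right k (Nat.coprime_two_right.2 hm))] at h1
  exact orderOf_eq_one_iff.1 (Nat.dvd_one.1 h1)

variable {det : G →* Zd} {δ : A →* Zd} {W : Subgroup A} {T : Subgroup (Equiv.Perm ι)} {z : A}

theorem Setup.D_mem (hS : Setup d det δ W T z) {v : ι → A} (hv : ∀ i, v i ∈ W) (h1 : ∏ i, δ (v i) = 1) :
    d.D v ∈ wr d W T ⊓ det.ker :=
  ⟨⟨v, 1, hv, one_mem _, by simp⟩, (hS.det_D v).trans h1⟩

theorem Setup.sign_mem (hS : Setup d det δ W T z) {ε : ι → A} (hε : SignVec δ z ε) :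
    d.D ε ∈ wr d W T ⊓ det.ker :=
  hS.D_mem (fun i => (hε.1 i).elim (fun h => h ▸ one_mem _) (fun h => h ▸ hS.zW)) hε.2

theorem prod_pair {i j : ι} (hij : j ≠ i) (w : A) :
    ∏ k, δ ((Pi.mulSingle i w * Pi.mulSingle j w⁻¹ : ι → A) k) = 1 := by
  simp only [Pi.mul_apply, map_mul, Finset.prod_mul_distrib]
  rw [Finset.prod_eq_single i (fun k _ hk => by simp [hk]) (by simp),
    Finset.prod_eq_single j (fun k _ hk => by simp [hk]) (by simp)]
  simp

/-- The pair vector. -/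
theorem Setup.pair_mem (hS : Setup d det δ W T z) {i j : ι} (hij : j ≠ i) {w : A} (hw : w ∈ W) :
    d.D (Pi.mulSingle i w * Pi.mulSingle j w⁻¹) ∈ wr d W T ⊓ det.ker := by
  refine hS.D_mem (fun k => ?_) (prod_pair hij w)
  simp only [Pi.mul_apply, Pi.mulSingle_apply]
  split_ifs <;> simp [hw, mul_mem]

/-- The involutions commuting with all their conjugates are exactly the sign vectors. -/
theorem Setup.sign_of_invol (hS : Setup d det δ W T z) {s : G} (hs : s ∈ wr d W T ⊓ det.ker)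
    (h2 : s * s = 1) (hc : ∀ x ∈ wr d W T ⊓ det.ker, Commute s (x * s * x⁻¹)) :
    ∃ ε, SignVec δ z ε ∧ s = d.D ε := by
  obtain ⟨⟨a, σ, ha, hσ, rfl⟩, hker⟩ := hs
  rw [mul_pair] at h2
  obtain ⟨h2a, h2σ⟩ := d.inj _ _ h2
  have hσs : σ.symm = σ := by
    rw [← Equiv.Perm.inv_def, inv_eq_iff_mul_eq_one]; exact h2σ
  have key : ∀ v : ι → A, (∀ i, v i ∈ W) → ∏ i, δ (v i) = 1 → ∀ k,
      a k * (v (σ k) * a (σ k) * (v k)⁻¹) = v k * a k * (v (σ k))⁻¹ * a (σ k) := by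
    intro v hv h1 k
    have hx := hc _ (hS.D_mem hv h1)
    have e : d.D v * (d.D a * d.perm σ) * (d.D v)⁻¹ = d.D (v * a * (v⁻¹ ∘ σ.symm)) * d.perm σ := by
      have := mul_pair (d := d) (v * a) v⁻¹ σ 1
      rw [map_one, mul_one, mul_one, map_inv, map_mul] at this
      rw [← this]
      simp [mul_assoc]
    rw [e] at hx
    have h3 := hx.eq
    rw [mul_pair, mul_pair] at h3
    have h4 := congrFun (pair_injective d h3).1 k
    simpa [hσs, show σ (σ k) = k from congrFun (congrArg DFunLike.coe h2σ) k] using h4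
  have hσ1 : σ = 1 := by
    by_contra hne
    obtain ⟨k, hk⟩ : ∃ k, σ k ≠ k := by
      by_contra hcon
      exact hne (Equiv.ext fun k => by_contra fun h => hcon ⟨k, h⟩)
    obtain ⟨v, hv, h1, hvl, hvk⟩ := hS.move k (σ k) (Ne.symm hk)
    have h := key v hv h1 k
    have h5 : a k * a (σ k) = 1 := by
      simpa [hσs] using congrFun h2a k
    rw [hvl, one_mul, inv_one, mul_one, ← mul_assoc, h5, one_mul, mul_assoc, h5, mul_one] at h
    exact hvk (by nth_rw 1 [← h]; exact inv_mul_cancel _)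
  subst hσ1
  refine ⟨a, ⟨fun i => ?_, ?_⟩, by simp⟩
  · refine hS.invol (a i) (ha i) (by simpa [← Equiv.Perm.inv_def] using congrFun h2a i) fun w hw => ?_
    obtain ⟨j, hj⟩ := hS.two i
    have h := key _ (fun k => by
      simp only [Pi.mul_apply, Pi.mulSingle_apply]
      split_ifs <;> simp [hw, mul_mem]) (prod_pair (i := i) hj w) i
    simp only [Pi.mul_apply, Pi.mulSingle_eq_same, Pi.mulSingle_eq_of_ne hj.symm, mul_one,
      Equiv.Perm.one_apply] at h
    exact h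
  · have : det (d.D a * d.perm 1) = 1 := hker
    simpa [hS.det_D] using this

theorem Setup.sign_invol (hS : Setup d det δ W T z) {ε : ι → A} (hε : SignVec δ z ε) :
    d.D ε * d.D ε = 1 ∧ ∀ x ∈ wr d W T ⊓ det.ker, Commute (d.D ε) (x * d.D ε * x⁻¹) := by
  have hc : ∀ i, ε i ∈ Subgroup.center A := fun i =>
    (hε.1 i).elim (fun h => h ▸ one_mem _) (fun h => h ▸ hS.zc)
  refine ⟨?_, ?_⟩
  · rw [← map_mul, show ε * ε = 1 from funext fun i => by
      rcases hε.1 i with h | h <;> simp [h, hS.z2], map_one]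
  · rintro x ⟨⟨v, σ, hv, -, rfl⟩, -⟩
    have e : d.D v * d.perm σ * d.D ε * (d.D v * d.perm σ)⁻¹ = d.D (v * (ε ∘ σ.symm) * v⁻¹) := by
      rw [mul_inv_rev, ← map_inv d.D]
      simp only [map_mul, mul_assoc]
      rw [← mul_assoc (d.perm σ) (d.D ε), d.conj]
      simp [mul_assoc]
    rw [e]
    refine Commute.map (funext fun i => ?_) d.D
    exact (Subgroup.mem_center_iff.1 (hc i) _).symm

/-- Odd elements normalising the determinant one part are constant central. -/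
theorem Setup.odd_normalizer (hS : Setup d det δ W T z) {g : G}
    (hg : g ∈ Subgroup.normalizer ((wr d W T ⊓ det.ker : Subgroup G) : Set G))
    (ho : Odd (orderOf g)) [Nonempty ι] : ∃ c ∈ Subgroup.center A, g = d.D (fun _ => c) := by
  set S := wr d W T ⊓ det.ker with hSdef
  have hconj : ∀ {x}, x ∈ S → g * x * g⁻¹ ∈ S := fun hx => (Subgroup.mem_normalizer_iff.1 hg _).1 hx
  have hconj' : ∀ {x}, x ∈ S → g⁻¹ * x * g ∈ S := fun {x} hx => by
    simpa using (Subgroup.mem_normalizer_iff.1 (inv_mem hg) _).1 hx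
  -- monomial
  obtain ⟨u, π, rfl⟩ : ∃ v σ, g = d.D v * d.perm σ := by
    refine hS.norm g fun ε hε => ?_
    obtain ⟨h1, h2⟩ := hS.sign_invol hε
    obtain ⟨ε', hε', e⟩ := hS.sign_of_invol (hconj (hS.sign_mem hε))
      (by rw [show g * d.D ε * g⁻¹ * (g * d.D ε * g⁻¹) = g * (d.D ε * d.D ε) * g⁻¹ by group, h1, mul_one,
        mul_inv_cancel]) (fun x hx => by
          have := (h2 _ (hconj' hx)).map (MulAut.conj g).toMonoidHom
          simpa [mul_assoc] using this)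
    exact ⟨ε', hε', by rw [← e]; group⟩
  set m := orderOf (d.D u * d.perm π) with hm
  -- the permutation part
  have hπT : π ∈ T := by
    refine hS.nT π fun τ hτ => ?_
    obtain ⟨v, hv, hk⟩ := hS.lift τ hτ
    obtain ⟨⟨w, τ', hw, hτ', e⟩, -⟩ := hconj (x := d.D v * d.perm τ) ⟨⟨v, τ, hv, hτ, rfl⟩, hk⟩
    rw [inv_pair, mul_pair, mul_pair] at e
    exact (pair_injective d e).2 ▸ hτ'
  have hπ : π = 1 := by
    obtain ⟨w, hw⟩ := pow_pair (d := d) u π m
    rw [hm, pow_orderOf_eq_one, ← hm] at hw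
    exact eq_one_of_odd hS.pT hπT ho (d.inj _ _ hw.symm).2
  subst hπ
  have hum : ∀ i, u i ^ m = 1 := by
    intro i
    have h := pow_orderOf_eq_one (d.D u * d.perm 1)
    rw [map_one, mul_one, ← map_pow] at h
    have h2 := congrFun (d.inj _ 1 (by rw [map_one d.perm, mul_one]; exact h)).1 i
    rw [hm, map_one, mul_one]
    exact h2
  have hodd : ∀ i, Odd (orderOf (u i)) := fun i =>
    ho.of_dvd_nat (orderOf_dvd_of_pow_eq_one (hum i))
  have hcen : ∀ i, u i ∈ Subgroup.center A := by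
    intro i
    refine hS.cent (u i) (hodd i) fun w hw => ?_
    obtain ⟨j, hj⟩ := hS.two i
    obtain ⟨⟨x, τ, hx, -, e⟩, -⟩ := hconj (hS.pair_mem hj hw)
    rw [map_one, mul_one, ← map_inv, ← map_mul, ← map_mul] at e
    have e2 := congrFun (pair_injective d (σ := 1) (τ := τ) (w := x)
      (v := u * (Pi.mulSingle i w * Pi.mulSingle j w⁻¹) * u⁻¹) (by rw [map_one, mul_one]; exact e)).1 i
    have : u i * w * (u i)⁻¹ = x i := by simpa [Pi.mulSingle_eq_of_ne hj.symm] using e2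
    exact this ▸ hx i
  have hconst : ∀ i j, u i = u j := by
    intro i j
    obtain ⟨τ, hτ, hτi⟩ := hS.tT j i
    obtain ⟨v, hv, hk⟩ := hS.lift τ hτ
    obtain ⟨⟨x, τ', hx, -, e⟩, -⟩ := hconj (x := d.D v * d.perm τ) ⟨⟨v, τ, hv, hτ, rfl⟩, hk⟩
    rw [inv_pair, mul_pair, mul_pair] at e
    have e2 := congrFun (pair_injective d e).1 i
    have hj : τ.symm i = j := by rw [← hτi]; simp
    simp [hj] at e2
    have hc : u i * (u j)⁻¹ ∈ W := by
      have : u i * v i * (u j)⁻¹ * (v i)⁻¹ ∈ W := mul_mem (e2 ▸ hx i) (inv_mem (hv i))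
      rwa [mul_assoc (u i), Subgroup.mem_center_iff.1 (inv_mem (hcen j)) (v i), ← mul_assoc,
        mul_inv_cancel_right] at this
    refine mul_inv_eq_one.1 (eq_one_of_odd hS.pW hc ho ?_)
    rw [(show Commute (u i) (u j)⁻¹ from (Subgroup.mem_center_iff.1 (hcen i) _).symm).mul_pow, inv_pow,
      hum, hum, inv_one, mul_one]
  obtain ⟨i0⟩ := ‹Nonempty ι›
  exact ⟨u i0, hcen i0, by rw [map_one, mul_one, show u = fun _ => u i0 from funext fun i => hconst i i0]⟩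

end Cfsg.Agent.OddPro
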