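/-
PSL(2^w, q), q odd, w ≥ 2: the normaliser of a Sylow 2-subgroup, and pronormality.
-/
import Cfsg.Agent.Lib.OddIndexPro.Basic
import Cfsg.Agent.Lib.OddIndexPro.Wreath
import Cfsg.Agent.Lib.OddIndexPro.GLTwo
import Cfsg.Agent.Lib.Blocks.SylowTwoClassical
import Cfsg.Agent.Lib.Perm.SylowTwoNormalizer
import Mathlib.LinearAlgebra.Matrix.ProjectiveSpecialLinearGroup

set_option autoImplicit false

namespace Cfsg.Agent.OddPro

open Matrix SylTwoWreath

/-- A Sylow 2-subgroup of the symmetric group of two-power degree is transitive and self normalising. -/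
theorem perm_sylow_facts (k : ℕ) (T : Sylow 2 (Equiv.Perm (Fin (2 ^ k)))) :
    IsPGroup 2 (T : Subgroup (Equiv.Perm (Fin (2 ^ k)))) ∧
    (∀ σ, (∀ τ ∈ (T : Subgroup (Equiv.Perm (Fin (2 ^ k)))), σ * τ * σ⁻¹ ∈ (T : Subgroup _)) →
      σ ∈ (T : Subgroup (Equiv.Perm (Fin (2 ^ k))))) ∧
    (∀ i j, ∃ τ ∈ (T : Subgroup (Equiv.Perm (Fin (2 ^ k)))), τ i = j) := by
  classical
  have : Fact (Nat.Prime 2) := ⟨Nat.prime_two⟩
  refine ⟨T.isPGroup', fun σ hσ => ?_, fun i j => ?_⟩
  · rw [← SylTwoNorm.normalizer_sylow_two_perm T]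
    refine Subgroup.mem_normalizer_iff_map_conj_eq.2 (Subgroup.eq_of_le_of_card_ge ?_
      (Subgroup.card_map_of_injective (MulAut.conj σ).injective).ge)
    rintro _ ⟨τ, hτ, rfl⟩
    exact hσ τ hτ
  · set H := (T : Subgroup (Equiv.Perm (Fin (2 ^ k))))
    suffices h : MulAction.orbit H i = Set.univ by
      obtain ⟨τ, hτ⟩ := (h ▸ Set.mem_univ j : j ∈ MulAction.orbit H i)
      exact ⟨τ, τ.2, hτ⟩
    have horb : (MulAction.orbit H i).ncard * Nat.card (MulAction.stabilizer H i) = Nat.card H := by
      rw [← MulAction.index_stabilizer, mul_comm]; exact Subgroup.card_mul_index _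
    have hle : MulAction.stabilizer H i ≤ (MulAction.stabilizer (Equiv.Perm (Fin (2 ^ k))) i).subgroupOf H :=
      fun x hx => hx
    have hdvd : Nat.card (MulAction.stabilizer H i) ∣ Nat.card (MulAction.stabilizer (Equiv.Perm (Fin (2 ^ k))) i) :=
      Subgroup.card_dvd_of_injective
        ((H.subtype.comp (MulAction.stabilizer H i).subtype).codRestrict
          (MulAction.stabilizer (Equiv.Perm (Fin (2 ^ k))) i) fun x => x.2)
        (fun a b h => Subtype.ext (Subtype.ext (congrArg Subtype.val h :)))
    have hstab : Nat.card (MulAction.stabilizer (Equiv.Perm (Fin (2 ^ k))) i) = (2 ^ k - 1).factorial := by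
      have h1 := (MulAction.stabilizer (Equiv.Perm (Fin (2 ^ k))) i).card_mul_index
      rw [MulAction.index_stabilizer, MulAction.orbit_eq_univ, Set.ncard_univ, Nat.card_perm, Nat.card_fin] at h1
      refine Nat.eq_of_mul_eq_mul_right (Nat.two_pow_pos k) (h1.trans ?_)
      rw [← Nat.mul_factorial_pred (Nat.two_pow_pos k).ne', mul_comm]
    have hH : Nat.card H = 2 ^ padicValNat 2 (2 ^ k).factorial := by
      rw [SylTwoClassical.card_sylow T, Nat.card_perm, Nat.card_fin]
    have hs : IsPGroup 2 (MulAction.stabilizer H i) := T.isPGroup'.to_subgroup _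
    obtain ⟨a, ha⟩ := IsPGroup.iff_card.1 hs
    rw [hstab, ha] at hdvd
    have hale : a ≤ padicValNat 2 (2 ^ k - 1).factorial := (padicValNat_dvd_iff_le (Nat.factorial_ne_zero _)).1 hdvd
    have hval : padicValNat 2 (2 ^ k).factorial = k + padicValNat 2 (2 ^ k - 1).factorial := by
      rw [← Nat.mul_factorial_pred (Nat.two_pow_pos k).ne', padicValNat.mul (by positivity)
        (Nat.factorial_ne_zero _), padicValNat.prime_pow]
    rw [ha, hH, hval] at horb
    refine Set.eq_of_subset_of_ncard_le (Set.subset_univ _) ?_ (Set.toFinite _)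
    rw [Set.ncard_univ, Nat.card_fin]
    have h2 : 2 ^ k * 2 ^ a ≤ (MulAction.orbit H i).ncard * 2 ^ a := by
      rw [horb, ← pow_add]
      exact Nat.pow_le_pow_right two_pos (by omega)
    exact Nat.le_of_mul_le_mul_right h2 (Nat.two_pow_pos a)

variable {F : Type*} [Field F] [Fintype F]

theorem det_diagFun {κ : Type*} [Fintype κ] [DecidableEq κ] (M : GL κ F) :
    M ∈ (Matrix.GeneralLinearGroup.det : GL κ F →* Fˣ).ker ↔ (M : Matrix κ κ F).det = 1 :=
  ⟨fun h => congrArg Units.val h, fun h => Units.ext h⟩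

/-- From the wreath setup to pronormality in the projective special linear group. -/
theorem pronormal_of_setup {κ A ι : Type*} [Fintype κ] [DecidableEq κ] [Group A] [Fintype ι] [DecidableEq ι]
    [Nonempty ι] {d : Data (GL κ F) A PUnit.{1} ι} {δ : A →* Fˣ} {W : Subgroup A}
    {T : Subgroup (Equiv.Perm ι)} {z : A} (hS : Setup d Matrix.GeneralLinearGroup.det δ W T z)
    (hcard : Nat.card (wr d W T) = 2 ^ padicValNat 2 (Nat.card (GL κ F)))
    (hscal : ∀ c ∈ Subgroup.center A, d.D (fun _ => c) ∈ Subgroup.center (GL κ F))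
    {K : Subgroup (Matrix.ProjectiveSpecialLinearGroup κ F)} (hK : Odd K.index) : Cfsg.IsPronormal K := by
  classical
  have : Fact (Nat.Prime 2) := ⟨Nat.prime_two⟩
  set f : SpecialLinearGroup κ F →* GL κ F := SpecialLinearGroup.toGL
  have hf : Function.Injective f := fun a b h => Subtype.ext (congrArg Units.val h)
  have hrange : f.range = Matrix.GeneralLinearGroup.det.ker := SylTwoClassical.range_toGL κ
  have : f.range.Normal := hrange ▸ MonoidHom.normal_ker _
  obtain ⟨P⟩ : Nonempty (Sylow 2 (SpecialLinearGroup κ F)) := inferInstance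
  have hR : Nat.card (wr d W T) = 2 ^ (Nat.card (GL κ F)).factorization 2 := by
    rw [hcard, Nat.factorization_def _ Nat.prime_two]
  obtain ⟨e⟩ := inter_equiv f hf (Sylow.ofCard (wr d W T) hR) P
  set S1 := (wr d W T).comap f
  have hS1 : S1.map f = wr d W T ⊓ Matrix.GeneralLinearGroup.det.ker := by
    rw [Subgroup.map_comap_eq, hrange, inf_comm]
  have hc1 : Nat.card S1 = 2 ^ (Nat.card (SpecialLinearGroup κ F)).factorization 2 := by
    rw [← Subgroup.card_map_of_injective (f := f) hf, hS1, ← hrange, ← P.card_eq_multiplicity]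
    exact Nat.card_congr e.toEquiv
  set S0 := Sylow.ofCard S1 hc1
  refine pronormal_quotient (Subgroup.center (SpecialLinearGroup κ F)) le_rfl S0 (fun H hH hZ => ?_) hK
  refine ((normalizer_le_sup S0 _ fun g hg ho => ?_).trans (sup_le hH hZ)).trans Subgroup.le_normalizer
  have hg' : f g ∈ Subgroup.normalizer ((wr d W T ⊓ Matrix.GeneralLinearGroup.det.ker : Subgroup (GL κ F)) : Set (GL κ F)) := by
    rw [← hS1]
    exact Subgroup.le_normalizer_map f ⟨g, hg, rfl⟩
  obtain ⟨c, hc, hcg⟩ := hS.odd_normalizer hg' (by rwa [orderOf_injective f hf])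
  refine Subgroup.mem_center_iff.2 fun x => hf ?_
  rw [map_mul, map_mul, hcg]
  exact Subgroup.mem_center_iff.1 (hscal c hc) _

/-- Change of the index type. -/
theorem pronormal_reindex {κ κ' : Type*} [Fintype κ] [DecidableEq κ] [Fintype κ'] [DecidableEq κ'] (e : κ ≃ κ')
    (h : ∀ K : Subgroup (Matrix.ProjectiveSpecialLinearGroup κ F), Odd K.index → Cfsg.IsPronormal K)
    {K : Subgroup (Matrix.ProjectiveSpecialLinearGroup κ' F)} (hK : Odd K.index) : Cfsg.IsPronormal K := by
  let φ : SpecialLinearGroup κ F ≃* SpecialLinearGroup κ' F :=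
    { toFun := fun g => ⟨Matrix.reindexAlgEquiv F F e g.1, by rw [Matrix.det_reindexAlgEquiv]; exact g.2⟩
      invFun := fun g => ⟨Matrix.reindexAlgEquiv F F e.symm g.1, by rw [Matrix.det_reindexAlgEquiv]; exact g.2⟩
      left_inv := fun g => Subtype.ext (Matrix.ext fun i j => by simp)
      right_inv := fun g => Subtype.ext (Matrix.ext fun i j => by simp)
      map_mul' := fun a b => Subtype.ext (map_mul (Matrix.reindexAlgEquiv F F e) a.1 b.1) }
  refine pronormal_equiv (QuotientGroup.congr (Subgroup.center _) (Subgroup.center _) φ ?_) h hK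
  ext x
  simp only [Subgroup.mem_map, Subgroup.mem_center_iff]
  constructor
  · rintro ⟨y, hy, rfl⟩ g
    obtain ⟨g, rfl⟩ := φ.surjective g
    exact ((map_mul φ g y).symm.trans (congrArg φ (hy g))).trans (map_mul φ y g)
  · intro hx
    refine ⟨φ.symm x, fun g => φ.injective ?_, φ.apply_symm_apply x⟩
    rw [map_mul, map_mul, φ.apply_symm_apply]
    exact hx _

/-! ### Monomial data, q ≡ 1 (mod 4) -/

variable (F) in
/-- The monomial data. -/
def monoData (n : ℕ) : Data (GL (Fin n) F) Fˣ PUnit.{1} (Fin n) where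
  D := (Units.map (Matrix.diagonalRingHom (Fin n) F).toMonoidHom).comp
    (MulEquiv.piUnits (M := fun _ : Fin n => F)).symm.toMonoidHom
  perm := (Matrix.permMatrixHom : Equiv.Perm (Fin n) →* Matrix (Fin n) (Fin n) F).toHomUnits
  dt := 1
  δ := 1
  conj σ v := by
    refine Units.ext ?_
    show (Matrix.permMatrixHom σ : Matrix (Fin n) (Fin n) F) * Matrix.diagonal _ =
      Matrix.diagonal _ * (Matrix.permMatrixHom σ : Matrix (Fin n) (Fin n) F)
    rw [Matrix.permMatrixHom_apply, PEquiv.toMatrix_toPEquiv_mul, PEquiv.mul_toMatrix_toPEquiv]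
    ext i j
    simp only [Matrix.submatrix_apply, id, Matrix.diagonal_apply, Function.comp_apply]
    have h1 : σ⁻¹ i = σ.symm i := rfl
    have h2 : (σ⁻¹).symm j = σ j := rfl
    rw [h1, h2]
    by_cases h : σ.symm i = j
    · subst h; simp
    · rw [if_neg h, if_neg fun h' => h (by rw [h']; simp)]
  inj v σ h := by
    have h0 : Matrix.diagonal (fun i => (v i : F)) * (σ⁻¹).permMatrix F = 1 := congrArg Units.val h
    rw [PEquiv.mul_toMatrix_toPEquiv] at h0
    have hv : ∀ i j, (if i = σ j then (v i : F) else 0) = if i = j then 1 else 0 := fun i j => by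
      have h' := Matrix.ext_iff.2 h0 i j
      have h2 : (σ⁻¹).symm j = σ j := rfl
      simpa [Matrix.submatrix_apply, h2, Matrix.diagonal_apply, Matrix.one_apply] using h'
    have hσ : σ = 1 := Equiv.ext fun j => by
      by_contra hne
      have := hv j j
      rw [if_neg (fun h' => hne h'.symm), if_pos rfl] at this
      exact one_ne_zero this.symm
    refine ⟨funext fun i => Units.ext ?_, hσ⟩
    simpa [hσ] using hv i i
  dt_D v := by simp
  dt_perm σ := rfl

theorem monoData_entry {n : ℕ} (v : Fin n → Fˣ) (σ : Equiv.Perm (Fin n)) (i j : Fin n) :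
    ((monoData F n).D v * (monoData F n).perm σ : GL (Fin n) F).1 i j = if i = σ j then (v i : F) else 0 := by
  show (Matrix.diagonal (fun i => (v i : F)) * (σ⁻¹).permMatrix F) i j = _
  rw [PEquiv.mul_toMatrix_toPEquiv]
  have h2 : (σ⁻¹).symm j = σ j := rfl
  simp [Matrix.submatrix_apply, h2, Matrix.diagonal_apply]

theorem monoData_det {n : ℕ} (v : Fin n → Fˣ) :
    Matrix.GeneralLinearGroup.det ((monoData F n).D v) = ∏ i, v i := by
  refine Units.ext ?_
  rw [Units.coe_prod]
  exact Matrix.det_diagonal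

theorem gl_row_col {κ : Type*} [Fintype κ] [DecidableEq κ] (g : GL κ F) :
    (∀ x, ∃ y, g.1 x y ≠ 0) ∧ ∀ y, ∃ x, g.1 x y ≠ 0 := by
  have hd : g.1.det ≠ 0 := ((Matrix.isUnit_iff_isUnit_det g.1).1 g.isUnit).ne_zero
  exact ⟨fun x => by_contra fun h => hd (Matrix.det_eq_zero_of_row_eq_zero x fun y => by
    simpa using not_exists.1 h y), fun y => by_contra fun h => hd (Matrix.det_eq_zero_of_column_eq_zero y fun x => by
    simpa using not_exists.1 h x)⟩

theorem one_ne_neg_one (hodd : Odd (Fintype.card F)) : (1 : F) ≠ -1 := by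
  intro h
  refine Ring.two_ne_zero (R := F) (fun h2 => ?_) (by linear_combination h)
  have := FiniteField.even_card_of_char_two (F := F) h2
  exact (Nat.not_even_iff_odd.2 hodd) (Nat.even_iff.2 this)

theorem pronormal_one_mod_four (h1 : Fintype.card F % 4 = 1) {k : ℕ} (hk : 2 ≤ k)
    {K : Subgroup (Matrix.ProjectiveSpecialLinearGroup (Fin (2 ^ k)) F)} (hK : Odd K.index) :
    Cfsg.IsPronormal K := by
  classical
  have : Fact (Nat.Prime 2) := ⟨Nat.prime_two⟩
  have hodd : Odd (Fintype.card F) := Nat.odd_iff.2 (by omega)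
  have hne1 : (1 : Fˣ) ≠ -1 := fun h => one_ne_neg_one hodd (by simpa using congrArg Units.val h)
  set n := 2 ^ k with hn
  have hn4 : 4 ≤ n := by
    calc 4 = 2 ^ 2 := rfl
      _ ≤ n := Nat.pow_le_pow_right two_pos hk
  obtain ⟨W⟩ : Nonempty (Sylow 2 Fˣ) := inferInstance
  obtain ⟨T⟩ : Nonempty (Sylow 2 (Equiv.Perm (Fin n))) := inferInstance
  have : Nonempty (Fin n) := ⟨⟨0, by omega⟩⟩
  obtain ⟨hTp, hTn, hTt⟩ := perm_sylow_facts k T
  have hz : (-1 : Fˣ) ∈ (W : Subgroup Fˣ) := by
    have hp : IsPGroup 2 (Subgroup.zpowers (-1 : Fˣ)) := by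
      intro x
      obtain ⟨j, hj⟩ := x.2
      refine ⟨1, Subtype.ext ?_⟩
      show (x : Fˣ) ^ (2 ^ 1) = 1
      rw [← hj, ← zpow_natCast, ← _root_.zpow_mul]
      exact Even.neg_one_zpow (even_two.mul_left j)
    have := IsPGroup.to_sup_of_normal_right hp W.isPGroup'
    exact W.is_maximal' this le_sup_right ▸ Subgroup.mem_sup_left (Subgroup.mem_zpowers _)
  have hthird : ∀ i j : Fin n, ∃ l, l ≠ i ∧ l ≠ j := by
    intro i j
    obtain ⟨l, -, hl⟩ := Finset.exists_mem_notMem_of_card_lt_card (s := {i, j}) (t := Finset.univ)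
      (lt_of_le_of_lt (Finset.card_le_two) (by simp; omega))
    exact ⟨l, by simpa using hl⟩
  have hprod : ∀ {i j : Fin n} (u : Fˣ), i ≠ j →
      ∏ l, (Pi.mulSingle i u * Pi.mulSingle j u⁻¹ : Fin n → Fˣ) l = 1 := fun u hij => by
    simpa using prod_pair (δ := MonoidHom.id Fˣ) hij.symm u
  obtain ⟨u, hu, hu2⟩ : ∃ u ∈ (W : Subgroup Fˣ), u * u ≠ 1 := by
    by_contra hcon
    simp only [not_exists, not_and, not_not] at hcon
    have hsub : Nat.card (W : Subgroup Fˣ) ≤ Nat.card ({1, -1} : Set Fˣ) :=
      Nat.card_mono (Set.toFinite _) fun x hx => by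
        rcases mul_self_eq_one_iff.1 (by simpa using congrArg Units.val (hcon x hx) : (x : F) * x = 1) with e | e
        · exact Or.inl (Units.ext e)
        · exact Or.inr (Units.ext (by simpa using e))
    have h4 : 2 ^ 2 ∣ Nat.card (W : Subgroup Fˣ) := W.pow_dvd_card_of_pow_dvd_card (by
      rw [Nat.card_eq_fintype_card, Fintype.card_units]; omega)
    have := Nat.le_of_dvd Nat.card_pos h4
    rw [Nat.card_coe_set_eq, Set.ncard_pair hne1] at hsub
    omega
  have hS : Setup (monoData F n) Matrix.GeneralLinearGroup.det (MonoidHom.id Fˣ) (W : Subgroup Fˣ)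
      (T : Subgroup (Equiv.Perm (Fin n))) (-1) :=
    { det_D := monoData_det
      two := fun i => by obtain ⟨l, hl, -⟩ := hthird i i; exact ⟨l, hl⟩
      pW := W.isPGroup'
      zW := hz
      zc := by rw [Subgroup.center_eq_top]; exact Subgroup.mem_top _
      z2 := by simp
      invol := fun a _ h2 _ => by
        rcases mul_self_eq_one_iff.1 (by simpa using congrArg Units.val h2 : (a : F) * a = 1) with e | e
        · exact Or.inl (Units.ext e)
        · exact Or.inr (Units.ext (by simpa using e))
      move := fun a b hab => by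
        obtain ⟨l, hla, hlb⟩ := hthird a b
        refine ⟨Pi.mulSingle a u * Pi.mulSingle l u⁻¹, fun i => ?_, hprod u hla.symm, ?_, ?_⟩
        · simp only [Pi.mul_apply, Pi.mulSingle_apply]
          split_ifs <;> simp [hu, mul_mem]
        · simp [hab.symm, hlb.symm]
        · simp [hla.symm, hu2]
      norm := fun g hg => by
        have huniq : ∀ x y y', g.1 x y ≠ 0 → g.1 x y' ≠ 0 → y = y' := by
          intro x y y' hy hy'
          by_contra hne
          obtain ⟨l, hly, hly'⟩ := hthird y y'
          set ε : Fin n → Fˣ := Pi.mulSingle y (-1) * Pi.mulSingle l (-1)⁻¹ with hε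
          obtain ⟨ε', -, he⟩ := hg ε ⟨fun i => by
            simp only [hε, inv_neg_one, Pi.mul_apply, Pi.mulSingle_apply]
            split_ifs with ha hb hc <;> simp, by simpa [hε] using hprod (-1) hly.symm⟩
          have hent : ∀ j, g.1 x j * (ε j : F) = (ε' x : F) * g.1 x j := fun j => by
            have h' : g.1 * Matrix.diagonal (fun i => (ε i : F)) = Matrix.diagonal (fun i => (ε' i : F)) * g.1 :=
              congrArg Units.val he
            have := congrFun (congrFun h' x) j
            rwa [Matrix.mul_diagonal, Matrix.diagonal_mul] at this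
          have ey : (ε y : F) = ε' x := mul_right_cancel₀ hy (by rw [← hent y, mul_comm])
          have ey' : (ε y' : F) = ε' x := mul_right_cancel₀ hy' (by rw [← hent y', mul_comm])
          have e2 := ey.trans ey'.symm
          simp [hε, hly.symm, hly'.symm, Ne.symm hne] at e2
          exact one_ne_neg_one hodd e2.symm
        obtain ⟨hr, hc⟩ := gl_row_col g
        choose τ hτ using hr
        have hsur : Function.Surjective τ := fun y => by
          obtain ⟨x, hx⟩ := hc y
          exact ⟨x, huniq x _ _ (hτ x) hx⟩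
        let π : Equiv.Perm (Fin n) := (Equiv.ofBijective τ (Finite.surjective_iff_bijective.1 hsur)).symm
        refine ⟨fun x => Units.mk0 _ (hτ x), π, Units.ext (Matrix.ext fun x y => ?_)⟩
        rw [monoData_entry]
        by_cases hxy : τ x = y
        · rw [if_pos (show x = π y by rw [← hxy]; exact (Equiv.ofBijective_symm_apply_apply τ _ x).symm),
            Units.val_mk0, hxy]
        · rw [if_neg (fun h => hxy (by rw [h]; exact Equiv.ofBijective_apply_symm_apply τ _ y))]
          by_contra h
          exact hxy (huniq x _ _ (hτ x) h)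
      cent := fun a _ _ => by rw [Subgroup.center_eq_top]; exact Subgroup.mem_top _
      pT := hTp
      nT := hTn
      tT := hTt
      lift := fun τ _ => by
        refine ⟨Pi.mulSingle ⟨0, by omega⟩ (if Equiv.Perm.sign τ = 1 then 1 else -1), fun i => ?_, ?_⟩
        · simp only [Pi.mulSingle_apply]
          split_ifs
          exacts [one_mem _, hz, one_mem _]
        · rw [MonoidHom.mem_ker, map_mul, monoData_det, Finset.prod_eq_single ⟨0, by omega⟩
            (fun i _ hi => Pi.mulSingle_eq_of_ne hi _) (by simp), Pi.mulSingle_eq_same]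
          refine Units.ext ?_
          show _ * ((Matrix.permMatrixHom τ : Matrix (Fin n) (Fin n) F)).det = 1
          rw [Matrix.permMatrixHom_apply, Matrix.det_permutation, Equiv.Perm.sign_inv]
          rcases Int.units_eq_one_or (Equiv.Perm.sign τ) with e | e <;> simp [e] }
  have hcard : Nat.card (wr (monoData F n) (W : Subgroup Fˣ) (T : Subgroup (Equiv.Perm (Fin n)))) =
      2 ^ padicValNat 2 (Nat.card (GL (Fin n) F)) := by
    obtain ⟨m, hm⟩ : ∃ m, n = 2 * m := ⟨2 ^ (k - 1), by rw [hn, ← pow_succ']; congr 1; omega⟩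
    have hF := SylTwoClassical.val_gl_succ (F := F) hodd
    have hgl2 : padicValNat 2 (Nat.card (GL (Fin 2) F)) = 2 * padicValNat 2 (Fintype.card F - 1) + 1 := by
      have h0 : padicValNat 2 (Nat.card (GL (Fin 0) F)) = 0 := by rw [Matrix.card_GL_field]; simp
      rw [hF 1, hF 0, h0, pow_one, add_zero, show Fintype.card F ^ (1 + 1) - 1 =
        (Fintype.card F + 1) * (Fintype.card F - 1) by rw [← Nat.sq_sub_sq, one_pow]]
      have hq : Fintype.card F - 1 ≠ 0 := by have := Fintype.one_lt_card (α := F); omega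
      rw [padicValNat.mul (by omega) hq]
      have : padicValNat 2 (Fintype.card F + 1) = 1 := by
        obtain ⟨r, hr⟩ : ∃ r, Fintype.card F + 1 = 2 * (2 * r + 1) := ⟨(Fintype.card F - 1) / 4, by omega⟩
        rw [hr, padicValNat.mul two_ne_zero (by omega), padicValNat_self,
          padicValNat.eq_zero_of_not_dvd (by omega)]
      omega
    rw [SylTwoClassical.card_wr_two _ W T, Nat.factorization_def _ Nat.prime_two]
    rw [hm, SylTwoClassical.val_gl_even hodd, hgl2, Fintype.card_fin, padicValNat_factorial_mul,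
      Nat.card_eq_fintype_card (α := Fˣ), Fintype.card_units]
    ring
  refine pronormal_of_setup hS hcard (fun c _ => Subgroup.mem_center_iff.2 fun M => Units.ext ?_) hK
  show M.1 * Matrix.diagonal (fun _ => (c : F)) = Matrix.diagonal (fun _ => (c : F)) * M.1
  ext x y
  rw [Matrix.mul_diagonal, Matrix.diagonal_mul, mul_comm]

/-! ### Block data, q ≡ 3 (mod 4) -/

variable (F) in
/-- The block data. -/
def blockData (m : ℕ) : Data (GL (Fin 2 × Fin m) F) (GL (Fin 2) F) PUnit.{1} (Fin m) where
  D := SylTwoClassical.diagUnit F m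
  perm := SylTwoClassical.permUnit F m
  dt := 1
  δ := 1
  conj := (SylTwoClassical.glData F m).conj
  inj := (SylTwoClassical.glData F m).inj
  dt_D v := by simp
  dt_perm σ := rfl

theorem blockData_entry {m : ℕ} (v : Fin m → GL (Fin 2) F) (σ : Equiv.Perm (Fin m)) (a b : Fin 2) (i j : Fin m) :
    ((blockData F m).D v * (blockData F m).perm σ : GL (Fin 2 × Fin m) F).1 (a, i) (b, j) =
      if i = σ j then (v i).1 a b else 0 := by
  show ((Matrix.blockDiagonal fun l => (v l : Matrix (Fin 2) (Fin 2) F)) *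
    ((SylTwoClassical.blockPerm m σ)⁻¹).permMatrix F) (a, i) (b, j) = _
  rw [PEquiv.mul_toMatrix_toPEquiv]
  have h2 : ((SylTwoClassical.blockPerm m σ)⁻¹).symm (b, j) = (b, σ j) := rfl
  simp [Matrix.submatrix_apply, h2, Matrix.blockDiagonal_apply]

theorem pronormal_three_mod_four (h3 : Fintype.card F % 4 = 3) {k : ℕ} (hk : 1 ≤ k)
    {K : Subgroup (Matrix.ProjectiveSpecialLinearGroup (Fin 2 × Fin (2 ^ k)) F)} (hK : Odd K.index) :
    Cfsg.IsPronormal K := by
  classical
  have : Fact (Nat.Prime 2) := ⟨Nat.prime_two⟩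
  have hodd : Odd (Fintype.card F) := Nat.odd_iff.2 (by omega)
  have hne1 : (1 : F) ≠ -1 := one_ne_neg_one hodd
  set m := 2 ^ k with hmdef
  have hm2 : 2 ≤ m := Nat.le_self_pow (by omega) 2
  obtain ⟨W, hWp, hWc, hz, hinv, ⟨u, hu, hud, hu2⟩, hcent⟩ := GLTwo.exists_sylow h3
  obtain ⟨T⟩ : Nonempty (Sylow 2 (Equiv.Perm (Fin m))) := inferInstance
  have : Nonempty (Fin m) := ⟨⟨0, by omega⟩⟩
  obtain ⟨hTp, hTn, hTt⟩ := perm_sylow_facts k T
  have hdet1 : Matrix.GeneralLinearGroup.det (-1 : GL (Fin 2) F) = 1 := by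
    refine Units.ext ?_
    show (((-1 : GL (Fin 2) F)) : Matrix (Fin 2) (Fin 2) F).det = 1
    simp [Matrix.det_fin_two]
  have hS : Setup (blockData F m) Matrix.GeneralLinearGroup.det Matrix.GeneralLinearGroup.det W
      (T : Subgroup (Equiv.Perm (Fin m))) (-1) :=
    { det_D := (SylTwoClassical.glData F m).dt_D
      two := fun i => by
        haveI : Nontrivial (Fin m) := Fin.nontrivial_iff_two_le.2 hm2
        exact exists_ne i
      pW := hWp
      zW := hz
      zc := Subgroup.mem_center_iff.2 fun g => by simp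
      z2 := by simp
      invol := hinv
      move := fun a b hab => by
        refine ⟨Pi.mulSingle a u, fun i => ?_, ?_, by simp [hab.symm], by simpa using hu2⟩
        · simp only [Pi.mulSingle_apply]
          split_ifs <;> simp [hu, one_mem]
        · rw [Finset.prod_eq_single a (fun i _ hi => by simp [hi]) (by simp), Pi.mulSingle_eq_same, hud]
      norm := fun g hg => by
        have huniq : ∀ x : Fin 2 × Fin m, ∀ y y' : Fin 2 × Fin m, g.1 x y ≠ 0 → g.1 x y' ≠ 0 →
            y.2 = y'.2 ∧ ∀ x' : Fin 2 × Fin m, x'.2 = x.2 → ∀ z', g.1 x' z' ≠ 0 → z'.2 = y.2 := by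
          intro x y y' hy hy'
          obtain ⟨ε', hε', he⟩ := hg (Pi.mulSingle y.2 (-1)) ⟨fun i => by
            simp only [Pi.mulSingle_apply]; split_ifs <;> simp,
            by rw [Finset.prod_eq_single y.2 (fun i _ hi => by simp [hi]) (by simp), Pi.mulSingle_eq_same, hdet1]⟩
          have hB : ∀ (ε : Fin m → GL (Fin 2) F), (∀ i, ε i = 1 ∨ ε i = -1) →
              ((blockData F m).D ε : GL (Fin 2 × Fin m) F).1 =
                Matrix.diagonal (fun p : Fin 2 × Fin m => if ε p.2 = 1 then (1 : F) else -1) := by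
            intro ε hε
            ext ⟨a, i⟩ ⟨b, j⟩
            show (Matrix.blockDiagonal fun l => (ε l : Matrix (Fin 2) (Fin 2) F)) (a, i) (b, j) = _
            rw [Matrix.blockDiagonal_apply, Matrix.diagonal_apply]
            by_cases hij : i = j
            · subst hij
              rcases hε i with e | e
              · rw [e]; simp [Matrix.one_apply, Prod.mk.injEq]
              · have : (-1 : GL (Fin 2) F) ≠ 1 := fun h => hne1 (by
                  simpa using (congrArg (fun g : GL (Fin 2) F => (g : Matrix (Fin 2) (Fin 2) F) 0 0) h).symm)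
                rw [e, if_pos rfl, if_neg this]
                rw [Units.val_neg, Matrix.neg_apply, Units.val_one, Matrix.one_apply]
                simp [Prod.mk.injEq]
                split_ifs <;> simp
            · rw [if_neg hij, if_neg (fun h => hij (Prod.ext_iff.1 h).2)]
          have he' : ∀ i, ε' i = 1 ∨ ε' i = -1 := hε'.1
          have h' := congrArg Units.val he
          rw [Units.val_mul, Units.val_mul, hB _ (fun i => by simp only [Pi.mulSingle_apply]; split_ifs <;> simp),
            hB _ he'] at h'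
          set s : Fin m → F := fun i => if (Pi.mulSingle y.2 (-1) : Fin m → GL (Fin 2) F) i = 1 then 1 else -1
          have hent : ∀ x0 y0, g.1 x0 y0 ≠ 0 → s y0.2 = if ε' x0.2 = 1 then (1 : F) else -1 := by
            intro x0 y0 h0
            have := congrFun (congrFun h' x0) y0
            rw [Matrix.mul_diagonal, Matrix.diagonal_mul, mul_comm] at this
            exact mul_right_cancel₀ h0 this
          have hs : ∀ i, s i = s y.2 → i = y.2 := by
            intro i hi
            by_contra hne
            have : (-1 : GL (Fin 2) F) ≠ 1 := fun h => hne1 (by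
              simpa using (congrArg (fun g : GL (Fin 2) F => (g : Matrix (Fin 2) (Fin 2) F) 0 0) h).symm)
            simp [s, hne, this] at hi
            exact hne1 hi
          refine ⟨(hs _ ((hent x y' hy').trans (hent x y hy).symm)).symm, fun x' hx' z' hz' => hs _ ?_⟩
          rw [hent x' z' hz', hent x y hy, hx']
        obtain ⟨hr, hc⟩ := gl_row_col g
        choose τ hτ using hr
        let t : Fin m → Fin m := fun i => (τ (0, i)).2
        have hblock : ∀ x z', g.1 x z' ≠ 0 → z'.2 = t x.2 := fun x z' h =>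
          (huniq (0, x.2) (τ (0, x.2)) (τ (0, x.2)) (hτ _) (hτ _)).2 x rfl z' h
        have hsur : Function.Surjective t := fun j => by
          obtain ⟨x, hx⟩ := hc (0, j)
          exact ⟨x.2, (hblock x _ hx).symm⟩
        let π : Equiv.Perm (Fin m) := (Equiv.ofBijective t (Finite.surjective_iff_bijective.1 hsur)).symm
        have hπ : ∀ i j, i = π j ↔ t i = j := fun i j => by
          constructor
          · rintro rfl; exact Equiv.ofBijective_apply_symm_apply t _ j
          · rintro rfl; exact (Equiv.ofBijective_symm_apply_apply t _ i).symm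
        let V : Fin m → Matrix (Fin 2) (Fin 2) F := fun i a b => g.1 (a, i) (b, t i)
        have hval : g.1 = Matrix.blockDiagonal V * ((SylTwoClassical.blockPerm m π)⁻¹).permMatrix F := by
          ext ⟨a, i⟩ ⟨b, j⟩
          rw [PEquiv.mul_toMatrix_toPEquiv]
          have h2 : ((SylTwoClassical.blockPerm m π)⁻¹).symm (b, j) = (b, π j) := rfl
          simp only [Matrix.submatrix_apply, id, h2, Matrix.blockDiagonal_apply]
          by_cases hij : i = π j
          · rw [if_pos hij]; simp [V, (hπ i j).1 hij]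
          · rw [if_neg hij]
            by_contra h
            exact hij ((hπ i j).2 (hblock (a, i) (b, j) h).symm)
        have hV : ∀ i, (V i).det ≠ 0 := by
          have h0 : g.1.det ≠ 0 := ((Matrix.isUnit_iff_isUnit_det g.1).1 g.isUnit).ne_zero
          rw [hval, Matrix.det_mul, Matrix.det_blockDiagonal] at h0
          exact fun i hi => h0 (by rw [Finset.prod_eq_zero (f := fun l => (V l).det) (Finset.mem_univ i) hi, zero_mul])
        exact ⟨fun i => Matrix.GeneralLinearGroup.mkOfDetNeZero (V i) (hV i), π, Units.ext hval⟩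
      cent := hcent
      pT := hTp
      nT := hTn
      tT := hTt
      lift := fun τ _ => by
        refine ⟨1, fun i => one_mem _, ?_⟩
        rw [MonoidHom.mem_ker, map_one, one_mul]
        exact (SylTwoClassical.glData F m).dt_perm τ }
  have hcard : Nat.card (wr (blockData F m) W (T : Subgroup (Equiv.Perm (Fin m)))) =
      2 ^ padicValNat 2 (Nat.card (GL (Fin 2 × Fin m) F)) := by
    have hF := SylTwoClassical.val_gl_succ (F := F) hodd
    have h0 : padicValNat 2 (Nat.card (GL (Fin 0) F)) = 0 := by rw [Matrix.card_GL_field]; simp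
    have hq : padicValNat 2 (Fintype.card F - 1) = 1 := by
      obtain ⟨r, hr⟩ : ∃ r, Fintype.card F - 1 = 2 * (2 * r + 1) := ⟨(Fintype.card F - 3) / 4, by omega⟩
      rw [hr, padicValNat.mul two_ne_zero (by omega), padicValNat_self, padicValNat.eq_zero_of_not_dvd (by omega)]
    rw [card_wr, hWc, SylTwoClassical.card_sylow, Nat.card_perm, Nat.card_fin, Fintype.card_fin,
      SylTwoClassical.card_gl_prod, SylTwoClassical.val_gl_even hodd, hF 1, hF 0, h0, pow_one, hq,
      ← pow_succ', ← pow_mul, ← pow_add]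
    congr 1
    ring
  refine pronormal_of_setup hS hcard (fun c hc => ?_) hK
  rw [Matrix.GeneralLinearGroup.center_eq_range_scalar, MonoidHom.mem_range] at hc
  obtain ⟨r, rfl⟩ := hc
  refine Subgroup.mem_center_iff.2 fun M => Units.ext ?_
  have e : ((blockData F m).D fun _ => Matrix.GeneralLinearGroup.scalar (Fin 2) r : GL (Fin 2 × Fin m) F).1 =
      Matrix.diagonal fun _ => (r : F) := by
    ext ⟨a, i⟩ ⟨b, j⟩
    show (Matrix.blockDiagonal fun _ : Fin m => _) (a, i) (b, j) = _
    rw [Matrix.blockDiagonal_apply, Matrix.diagonal_apply]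
    simp [Matrix.GeneralLinearGroup.scalar, Matrix.diagonal_apply, Prod.mk.injEq]
    split_ifs <;> simp_all
  rw [Units.val_mul, Units.val_mul, e]
  ext x y
  rw [Matrix.mul_diagonal, Matrix.diagonal_mul, mul_comm]

/-- Subgroups of odd index in PSL(2^w, q), q odd, w ≥ 2. -/
theorem pronormal_psl_odd (hodd : Odd (Fintype.card F)) {w : ℕ} (hw : 2 ≤ w)
    {K : Subgroup (Matrix.ProjectiveSpecialLinearGroup (Fin (2 ^ w)) F)} (hK : Odd K.index) :
    Cfsg.IsPronormal K := by
  rcases (show Fintype.card F % 4 = 1 ∨ Fintype.card F % 4 = 3 by have := Nat.odd_iff.1 hodd; omega) with h | h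
  · exact pronormal_one_mod_four h hw hK
  · obtain ⟨k, rfl⟩ : ∃ k, w = k + 1 := ⟨w - 1, by omega⟩
    exact pronormal_reindex (finProdFinEquiv.trans (finCongr (pow_succ' 2 k).symm)) (fun _ => pronormal_three_mod_four h (by omega)) hK

end Cfsg.Agent.OddPro
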