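/-
Matrices normalising the diagonal sign vectors are monomial, or block monomial.
-/
import Cfsg.Agent.Lib.OddIndexPro.Linear

set_option autoImplicit false

namespace Cfsg.Agent.OddPro

open Matrix SylTwoWreath

variable {F : Type*} [Field F] [Fintype F]

/-- Monomiality. -/
theorem mono_of_signs (hodd : Odd (Fintype.card F)) {n : ℕ}
    (hthird : ∀ i j : Fin n, ∃ l, l ≠ i ∧ l ≠ j) (g : GL (Fin n) F)
    (hg : ∀ ε : Fin n → Fˣ, SignVec (MonoidHom.id Fˣ) (-1) ε →
      ∃ ε', SignVec (MonoidHom.id Fˣ) (-1) ε' ∧ g * (monoData F n).D ε = (monoData F n).D ε' * g) :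
    ∃ v σ, g = (monoData F n).D v * (monoData F n).perm σ := by
  classical
  have hprod : ∀ {i j : Fin n} (u : Fˣ), i ≠ j →
      ∏ l, (Pi.mulSingle i u * Pi.mulSingle j u⁻¹ : Fin n → Fˣ) l = 1 := fun u hij => by
    simpa using prod_pair (δ := MonoidHom.id Fˣ) hij.symm u
  have huniq : ∀ x y y', g.1 x y ≠ 0 → g.1 x y' ≠ 0 → y = y' := by
    intro x y y' hy hy'
    by_contra hne
    obtain ⟨l, hly, hly'⟩ := hthird y y'
    set ε : Fin n → Fˣ := Pi.mulSingle y (-1) * Pi.mulSingle l (-1)⁻¹ with hε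
    obtain ⟨ε', -, he⟩ := hg ε ⟨fun i => by
      simp only [hε, inv_neg_one, Pi.mul_apply, Pi.mulSingle_apply]
      split_ifs with ha hb hc <;> simp, by simpa [hε] using hprod (-1) hly.symm⟩
    have hent : ∀ j, g.1 x j * (ε j : F) = (ε' x : F) * g.1 x j := fun j => by
      have h' : g.1 * Matrix.diagonal (fun i => (ε i : F)) = Matrix.diagonal (fun i => (ε' i : F)) * g.1 :=
        congrArg Units.val he
      have := congrFun (congrFun h' x) j
      rwa [Matrix.mul_diagonal, Matrix.diagonal_mul] at this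
    have ey : (ε y : F) = ε' x := mul_right_cancel₀ hy (by rw [← hent y, mul_comm])
    have ey' : (ε y' : F) = ε' x := mul_right_cancel₀ hy' (by rw [← hent y', mul_comm])
    have e2 := ey.trans ey'.symm
    simp [hε, hly.symm, hly'.symm, Ne.symm hne] at e2
    exact one_ne_neg_one hodd e2.symm
  obtain ⟨hr, hc⟩ := gl_row_col g
  choose τ hτ using hr
  have hsur : Function.Surjective τ := fun y => by
    obtain ⟨x, hx⟩ := hc y
    exact ⟨x, huniq x _ _ (hτ x) hx⟩
  let π : Equiv.Perm (Fin n) := (Equiv.ofBijective τ (Finite.surjective_iff_bijective.1 hsur)).symm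
  refine ⟨fun x => Units.mk0 _ (hτ x), π, Units.ext (Matrix.ext fun x y => ?_)⟩
  rw [monoData_entry]
  by_cases hxy : τ x = y
  · rw [if_pos (show x = π y by rw [← hxy]; exact (Equiv.ofBijective_symm_apply_apply τ _ x).symm),
      Units.val_mk0, hxy]
  · rw [if_neg (fun h => hxy (by rw [h]; exact Equiv.ofBijective_apply_symm_apply τ _ y))]
    by_contra h
    exact hxy (huniq x _ _ (hτ x) h)

/-- Block monomiality. -/
theorem block_of_signs (hodd : Odd (Fintype.card F)) {m : ℕ} (g : GL (Fin 2 × Fin m) F)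
    (hg : ∀ ε : Fin m → GL (Fin 2) F, SignVec Matrix.GeneralLinearGroup.det (-1) ε →
      ∃ ε', SignVec Matrix.GeneralLinearGroup.det (-1) ε' ∧ g * (blockData F m).D ε = (blockData F m).D ε' * g) :
    ∃ v σ, g = (blockData F m).D v * (blockData F m).perm σ := by
  classical
  have hne1 : (1 : F) ≠ -1 := one_ne_neg_one hodd
  have hdet1 : Matrix.GeneralLinearGroup.det (-1 : GL (Fin 2) F) = 1 := by
    refine Units.ext ?_
    show (((-1 : GL (Fin 2) F)) : Matrix (Fin 2) (Fin 2) F).det = 1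
    simp [Matrix.det_fin_two]
  have huniq : ∀ x : Fin 2 × Fin m, ∀ y y' : Fin 2 × Fin m, g.1 x y ≠ 0 → g.1 x y' ≠ 0 →
      y.2 = y'.2 ∧ ∀ x' : Fin 2 × Fin m, x'.2 = x.2 → ∀ z', g.1 x' z' ≠ 0 → z'.2 = y.2 := by
    intro x y y' hy hy'
    obtain ⟨ε', hε', he⟩ := hg (Pi.mulSingle y.2 (-1)) ⟨fun i => by
      simp only [Pi.mulSingle_apply]; split_ifs <;> simp,
      by rw [Finset.prod_eq_single y.2 (fun i _ hi => by simp [hi]) (by simp), Pi.mulSingle_eq_same, hdet1]⟩
    have hB : ∀ (ε : Fin m → GL (Fin 2) F), (∀ i, ε i = 1 ∨ ε i = -1) →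
        ((blockData F m).D ε : GL (Fin 2 × Fin m) F).1 =
          Matrix.diagonal (fun p : Fin 2 × Fin m => if ε p.2 = 1 then (1 : F) else -1) := by
      intro ε hε
      ext ⟨a, i⟩ ⟨b, j⟩
      show (Matrix.blockDiagonal fun l => (ε l : Matrix (Fin 2) (Fin 2) F)) (a, i) (b, j) = _
      rw [Matrix.blockDiagonal_apply, Matrix.diagonal_apply]
      by_cases hij : i = j
      · subst hij
        rcases hε i with e | e
        · rw [e]; simp [Matrix.one_apply, Prod.mk.injEq]
        · have : (-1 : GL (Fin 2) F) ≠ 1 := fun h => hne1 (by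
            simpa using (congrArg (fun g : GL (Fin 2) F => (g : Matrix (Fin 2) (Fin 2) F) 0 0) h).symm)
          rw [e, if_pos rfl, if_neg this]
          rw [Units.val_neg, Matrix.neg_apply, Units.val_one, Matrix.one_apply]
          simp [Prod.mk.injEq]
          split_ifs <;> simp
      · rw [if_neg hij, if_neg (fun h => hij (Prod.ext_iff.1 h).2)]
    have he' : ∀ i, ε' i = 1 ∨ ε' i = -1 := hε'.1
    have h' := congrArg Units.val he
    rw [Units.val_mul, Units.val_mul, hB _ (fun i => by simp only [Pi.mulSingle_apply]; split_ifs <;> simp),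
      hB _ he'] at h'
    set s : Fin m → F := fun i => if (Pi.mulSingle y.2 (-1) : Fin m → GL (Fin 2) F) i = 1 then 1 else -1
    have hent : ∀ x0 y0, g.1 x0 y0 ≠ 0 → s y0.2 = if ε' x0.2 = 1 then (1 : F) else -1 := by
      intro x0 y0 h0
      have := congrFun (congrFun h' x0) y0
      rw [Matrix.mul_diagonal, Matrix.diagonal_mul, mul_comm] at this
      exact mul_right_cancel₀ h0 this
    have hs : ∀ i, s i = s y.2 → i = y.2 := by
      intro i hi
      by_contra hne
      have : (-1 : GL (Fin 2) F) ≠ 1 := fun h => hne1 (by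
        simpa using (congrArg (fun g : GL (Fin 2) F => (g : Matrix (Fin 2) (Fin 2) F) 0 0) h).symm)
      simp [s, hne, this] at hi
      exact hne1 hi
    refine ⟨(hs _ ((hent x y' hy').trans (hent x y hy).symm)).symm, fun x' hx' z' hz' => hs _ ?_⟩
    rw [hent x' z' hz', hent x y hy, hx']
  obtain ⟨hr, hc⟩ := gl_row_col g
  choose τ hτ using hr
  let t : Fin m → Fin m := fun i => (τ (0, i)).2
  have hblock : ∀ x z', g.1 x z' ≠ 0 → z'.2 = t x.2 := fun x z' h =>
    (huniq (0, x.2) (τ (0, x.2)) (τ (0, x.2)) (hτ _) (hτ _)).2 x rfl z' h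
  have hsur : Function.Surjective t := fun j => by
    obtain ⟨x, hx⟩ := hc (0, j)
    exact ⟨x.2, (hblock x _ hx).symm⟩
  let π : Equiv.Perm (Fin m) := (Equiv.ofBijective t (Finite.surjective_iff_bijective.1 hsur)).symm
  have hπ : ∀ i j, i = π j ↔ t i = j := fun i j => by
    constructor
    · rintro rfl; exact Equiv.ofBijective_apply_symm_apply t _ j
    · rintro rfl; exact (Equiv.ofBijective_symm_apply_apply t _ i).symm
  let V : Fin m → Matrix (Fin 2) (Fin 2) F := fun i a b => g.1 (a, i) (b, t i)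
  have hval : g.1 = Matrix.blockDiagonal V * ((SylTwoClassical.blockPerm m π)⁻¹).permMatrix F := by
    ext ⟨a, i⟩ ⟨b, j⟩
    rw [PEquiv.mul_toMatrix_toPEquiv]
    have h2 : ((SylTwoClassical.blockPerm m π)⁻¹).symm (b, j) = (b, π j) := rfl
    simp only [Matrix.submatrix_apply, id, h2, Matrix.blockDiagonal_apply]
    by_cases hij : i = π j
    · rw [if_pos hij]; simp [V, (hπ i j).1 hij]
    · rw [if_neg hij]
      by_contra h
      exact hij ((hπ i j).2 (hblock (a, i) (b, j) h).symm)
  have hV : ∀ i, (V i).det ≠ 0 := by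
    have h0 : g.1.det ≠ 0 := ((Matrix.isUnit_iff_isUnit_det g.1).1 g.isUnit).ne_zero
    rw [hval, Matrix.det_mul, Matrix.det_blockDiagonal] at h0
    exact fun i hi => h0 (by rw [Finset.prod_eq_zero (f := fun l => (V l).det) (Finset.mem_univ i) hi, zero_mul])
  exact ⟨fun i => Matrix.GeneralLinearGroup.mkOfDetNeZero (V i) (hV i), π, Units.ext hval⟩

end Cfsg.Agent.OddPro
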