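/-
Wreath data restricted to subgroups; the step from the setup to pronormality.
-/
import Cfsg.Agent.Lib.OddIndexPro.Basic
import Cfsg.Agent.Lib.OddIndexPro.Wreath
import Cfsg.Agent.Lib.Blocks.SylowTwoClassical

set_option autoImplicit false

namespace Cfsg.Agent.OddPro

open SylTwoWreath

variable {G A Z : Type*} [Group G] [Group A] [CommGroup Z] {ι : Type*} [Fintype ι] [DecidableEq ι]

/-- From the wreath setup to pronormality in the kernel of the determinant modulo its centre. -/
theorem pronormal_of_setup_gen [Finite G] [Nonempty ι] {d : Data G A PUnit.{1} ι} {det : G →* Z} {δ : A →* Z}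
    {W : Subgroup A} {T : Subgroup (Equiv.Perm ι)} {z : A} (hS : Setup d det δ W T z)
    (hcard : Nat.card (wr d W T) = 2 ^ padicValNat 2 (Nat.card G))
    (hscal : ∀ c ∈ Subgroup.center A, d.D (fun _ => c) ∈ Subgroup.center G)
    {K : Subgroup (det.ker ⧸ Subgroup.center det.ker)} (hK : Odd K.index) : Cfsg.IsPronormal K := by
  classical
  have : Fact (Nat.Prime 2) := ⟨Nat.prime_two⟩
  set f : det.ker →* G := det.ker.subtype
  have hf : Function.Injective f := Subtype.coe_injective
  have hrange : f.range = det.ker := det.ker.range_subtype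
  have : f.range.Normal := by rw [hrange]; infer_instance
  obtain ⟨P⟩ : Nonempty (Sylow 2 det.ker) := inferInstance
  have hR : Nat.card (wr d W T) = 2 ^ (Nat.card G).factorization 2 := by
    rw [hcard, Nat.factorization_def _ Nat.prime_two]
  obtain ⟨e⟩ := inter_equiv f hf (Sylow.ofCard (wr d W T) hR) P
  set S1 := (wr d W T).comap f
  have hS1 : S1.map f = wr d W T ⊓ det.ker := by
    rw [Subgroup.map_comap_eq, hrange, inf_comm]
  have hc1 : Nat.card S1 = 2 ^ (Nat.card det.ker).factorization 2 := by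
    rw [← Subgroup.card_map_of_injective (f := f) hf, hS1, ← P.card_eq_multiplicity]
    exact Nat.card_congr ((MulEquiv.subgroupCongr (by rw [hrange]; rfl)).trans e).toEquiv
  set S0 := Sylow.ofCard S1 hc1
  refine pronormal_quotient (Subgroup.center det.ker) le_rfl S0 (fun H hH hZ => ?_) hK
  refine ((normalizer_le_sup S0 _ fun g hg ho => ?_).trans (sup_le hH hZ)).trans Subgroup.le_normalizer
  have hg' : f g ∈ Subgroup.normalizer ((wr d W T ⊓ det.ker : Subgroup G) : Set G) := by
    rw [← hS1]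
    exact Subgroup.le_normalizer_map f ⟨g, hg, rfl⟩
  obtain ⟨c, hc, hcg⟩ := hS.odd_normalizer hg' (by rwa [orderOf_injective f hf])
  refine Subgroup.mem_center_iff.2 fun x => hf ?_
  rw [map_mul, map_mul, hcg]
  exact Subgroup.mem_center_iff.1 (hscal c hc) _

variable (d : Data G A PUnit.{1} ι) (G₀ : Subgroup G) (A₀ : Subgroup A)
  (hD : ∀ v : ι → A, (∀ i, v i ∈ A₀) → d.D v ∈ G₀) (hP : ∀ σ, d.perm σ ∈ G₀)

/-- The data on subgroups. -/
def restrict : Data G₀ A₀ PUnit.{1} ι where
  D := MonoidHom.mk' (fun v => ⟨d.D fun i => (v i : A), hD _ fun i => (v i).2⟩) fun a b =>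
    Subtype.ext ((congrArg d.D (funext fun i => rfl)).trans (map_mul d.D (fun i => (a i : A)) fun i => (b i : A)))
  perm := d.perm.codRestrict G₀ hP
  dt := 1
  δ := 1
  conj σ v := Subtype.ext (d.conj σ fun i => (v i : A))
  inj v σ h := by
    obtain ⟨h1, h2⟩ := d.inj (fun i => (v i : A)) σ (congrArg Subtype.val h)
    exact ⟨funext fun i => Subtype.ext (congrFun h1 i), h2⟩
  dt_D v := by simp
  dt_perm σ := rfl

theorem restrict_D (v : ι → A₀) : (((restrict d G₀ A₀ hD hP).D v : G₀) : G) = d.D fun i => (v i : A) := rfl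

/-- Monomiality passes to the restricted data. -/
theorem restrict_norm {δ : A →* Z} {z : A₀}
    (hmono : ∀ g : G, (∀ ε : ι → A, SignVec δ (z : A) ε →
      ∃ ε', SignVec δ (z : A) ε' ∧ g * d.D ε = d.D ε' * g) → ∃ v σ, g = d.D v * d.perm σ)
    (hback : ∀ v : ι → A, d.D v ∈ G₀ → ∀ i, v i ∈ A₀)
    (g : G₀) (hg : ∀ ε, SignVec (δ.comp A₀.subtype) z ε → ∃ ε', SignVec (δ.comp A₀.subtype) z ε' ∧
      g * (restrict d G₀ A₀ hD hP).D ε = (restrict d G₀ A₀ hD hP).D ε' * g) :
    ∃ v σ, g = (restrict d G₀ A₀ hD hP).D v * (restrict d G₀ A₀ hD hP).perm σ := by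
  obtain ⟨v, σ, h⟩ := hmono (g : G) fun ε hε => by
    have hmem : ∀ i, ε i ∈ A₀ := fun i => (hε.1 i).elim (fun e => e ▸ one_mem _) (fun e => e ▸ z.2)
    obtain ⟨ε', hε', he⟩ := hg (fun i => ⟨ε i, hmem i⟩)
      ⟨fun i => (hε.1 i).imp (fun e => Subtype.ext e) (fun e => Subtype.ext e), hε.2⟩
    exact ⟨fun i => (ε' i : A), ⟨fun i => (hε'.1 i).imp (fun e => congrArg Subtype.val e)
      (fun e => congrArg Subtype.val e), hε'.2⟩, congrArg Subtype.val he⟩
  have hv : d.D v ∈ G₀ := by
    rw [show d.D v = (g : G) * (d.perm σ)⁻¹ by rw [h, mul_inv_cancel_right]]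
    exact mul_mem g.2 (inv_mem (hP σ))
  exact ⟨fun i => ⟨v i, hback v hv i⟩, σ, Subtype.ext h⟩

end Cfsg.Agent.OddPro
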