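/-
PSL(2, q), q odd: subgroups of odd index are pronormal.
-/
import Cfsg.Agent.Lib.OddIndexPro.Basic
import Cfsg.Agent.Lib.Classical.SL2SylowNormalizer
import Cfsg.Agent.Lib.Classical.DicksonProper
import Mathlib.GroupTheory.Transfer
import Mathlib.LinearAlgebra.Projectivization.PSL.PSL2
import Mathlib.GroupTheory.SpecificGroups.Dihedral
import Mathlib.GroupTheory.SpecificGroups.Alternating

set_option autoImplicit false

namespace Cfsg.Agent.OddPro

section generic

variable {G : Type*} [Group G] [Finite G]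

theorem complement_of_self_normalizing (V : Sylow 2 G) (hab : IsMulCommutative (V : Subgroup G))
    (hN : Subgroup.normalizer ((V : Subgroup G) : Set G) ≤ (V : Subgroup G)) :
    ∃ O : Subgroup G, O.Normal ∧ O.IsComplement' V := by
  have : Fact (Nat.Prime 2) := ⟨Nat.prime_two⟩
  have hP : Subgroup.normalizer ((V : Subgroup G) : Set G) ≤ Subgroup.centralizer ((V : Subgroup G) : Set G) :=
    hN.trans (Subgroup.le_centralizer _)
  exact ⟨_, MonoidHom.normal_ker _, MonoidHom.ker_transferSylow_isComplement' V hP⟩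

theorem not_simple_of_self_normalizing (V : Sylow 2 G) (hab : IsMulCommutative (V : Subgroup G))
    (hV : Nat.card (V : Subgroup G) = 4)
    (hN : Subgroup.normalizer ((V : Subgroup G) : Set G) ≤ (V : Subgroup G)) : ¬ IsSimpleGroup G := by
  intro hs
  obtain ⟨O, hOn, hO⟩ := complement_of_self_normalizing V hab hN
  have hc := hO.card_mul
  rw [hV] at hc
  rcases hs.eq_bot_or_eq_top_of_normal O hOn with h | h
  · rw [h, Subgroup.card_bot, one_mul] at hc
    have htop : (V : Subgroup G) = ⊤ := Subgroup.eq_top_of_card_eq _ (by rw [hV, ← hc])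
    have hcomm : ∀ a b : G, a * b = b * a := fun a b => by
      have := hab.is_comm.comm (⟨a, htop ▸ Subgroup.mem_top a⟩ : (V : Subgroup G)) ⟨b, htop ▸ Subgroup.mem_top b⟩
      exact congrArg Subtype.val this
    letI : CommGroup G := { ‹Group G› with mul_comm := hcomm }
    have := (IsSimpleGroup.prime_card (α := G))
    rw [← hc] at this
    norm_num at this
  · rw [h, Subgroup.card_top] at hc
    have := Nat.card_pos (α := G)
    omega

theorem central_of_card_twelve (V : Sylow 2 G) (hab : IsMulCommutative (V : Subgroup G))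
    (hV : Nat.card (V : Subgroup G) = 4) (h12 : Nat.card G = 12)
    (hN : Subgroup.normalizer ((V : Subgroup G) : Set G) ≤ (V : Subgroup G)) :
    ∃ z ∈ Subgroup.center G, z * z = 1 ∧ z ≠ 1 := by
  classical
  have : Fact (Nat.Prime 2) := ⟨Nat.prime_two⟩
  obtain ⟨O, hOn, hO⟩ := complement_of_self_normalizing V hab hN
  have hc := hO.card_mul
  rw [hV, h12] at hc
  have hO3 : Nat.card O = 3 := by omega
  -- the action on `O` has kernel of index at most two
  let φ : (V : Subgroup G) →* MulAut O := MulAut.conjNormal.comp (V : Subgroup G).subtype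
  have haut : Nat.card φ.range ≤ 2 := by
    haveI : IsCyclic O := by
      haveI : Fact (Nat.Prime 3) := ⟨Nat.prime_three⟩
      exact isCyclic_of_prime_card hO3
    refine (Nat.le_of_dvd Nat.card_pos (Subgroup.card_subgroup_dvd_card φ.range)).trans ?_
    rw [IsCyclic.card_mulAut, hO3]
    decide
  have hker : 2 ≤ Nat.card φ.ker := by
    have h := φ.ker.card_mul_index
    rw [Subgroup.index_ker, hV] at h
    by_contra hlt
    nlinarith [Nat.card_pos (α := φ.ker)]
  obtain ⟨k, hk, hk1⟩ : ∃ k ∈ φ.ker, k * k = 1 ∧ k ≠ 1 := by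
    have hdvd : 2 ∣ Nat.card φ.ker := by
      rcases (Nat.dvd_prime_pow Nat.prime_two (m := 2)).1 (hV ▸ Subgroup.card_subgroup_dvd_card φ.ker) with ⟨i, -, hi⟩
      rw [hi] at hker ⊢
      rcases i with _ | i
      · simp at hker
      · exact dvd_pow_self 2 (by omega)
    obtain ⟨x, hx⟩ := exists_prime_orderOf_dvd_card' 2 hdvd
    refine ⟨x, x.2, ?_, fun h => ?_⟩
    · have := pow_orderOf_eq_one x
      rw [hx, sq] at this
      exact congrArg Subtype.val this
    · have e : x = 1 := Subtype.ext h
      rw [e, orderOf_one] at hx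
      exact absurd hx (by norm_num)
  refine ⟨k, ?_, congrArg Subtype.val hk1.1, fun h => hk1.2 (Subtype.ext h)⟩
  refine Subgroup.mem_center_iff.2 fun g => ?_
  obtain ⟨⟨o, v⟩, hov⟩ := hO.2 g
  have h1 : (k : G) * o * (k : G)⁻¹ = o := by
    simpa [φ] using congrArg Subtype.val (DFunLike.congr_fun (MonoidHom.mem_ker.1 hk) ⟨o, o.2⟩)
  have h2 : (v : G) * k = k * v := congrArg Subtype.val (hab.is_comm.comm (⟨v, v.2⟩ : (V : Subgroup G)) k)
  rw [← hov]
  show (o : G) * v * k = k * (o * v)
  rw [mul_assoc, h2, ← mul_assoc, ← mul_assoc, ← (mul_inv_eq_iff_eq_mul.1 h1)]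

end generic

open Matrix

variable {F : Type*} [Field F] [Fintype F]

local notation "PP" => Matrix.ProjectiveSpecialLinearGroup (Fin 2) F

theorem center_dihedral {k : ℕ} (hk : Even k) (h0 : k ≠ 0) :
    ∃ z ∈ Subgroup.center (DihedralGroup k), z * z = 1 ∧ z ≠ 1 := by
  obtain ⟨m, hm⟩ := hk
  have h2 : ((m : ℕ) : ZMod k) + (m : ℕ) = 0 := by rw [← Nat.cast_add, ← hm, ZMod.natCast_self]
  have hneg : -((m : ℕ) : ZMod k) = (m : ℕ) := neg_eq_of_add_eq_zero_left h2
  refine ⟨DihedralGroup.r ((m : ℕ) : ZMod k), Subgroup.mem_center_iff.2 fun g => ?_, ?_, ?_⟩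
  · rcases g with i | i
    · rw [DihedralGroup.r_mul_r, DihedralGroup.r_mul_r, add_comm]
    · rw [DihedralGroup.sr_mul_r, DihedralGroup.r_mul_sr, sub_eq_add_neg, hneg]
  · rw [DihedralGroup.r_mul_r, h2]; rfl
  · intro h
    rw [DihedralGroup.one_def, DihedralGroup.r.injEq, ZMod.natCast_eq_zero_iff] at h
    have := Nat.le_of_dvd (by omega) h
    omega

theorem pronormal_psl_two_small (h8 : Fintype.card F % 8 = 3 ∨ Fintype.card F % 8 = 5)
    (hs : IsSimpleGroup PP) {K : Subgroup PP} (hK : Odd K.index) : Cfsg.IsPronormal K := by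
  classical
  have : Fact (Nat.Prime 2) := ⟨Nat.prime_two⟩
  have hodd : Odd (Fintype.card F) := Nat.odd_iff.2 (by omega)
  set q := Fintype.card F with hq
  have hzz : Nat.card (Subgroup.center (SpecialLinearGroup (Fin 2) F)) = 2 := by
    rw [Dickson.card_center, Nat.card_eq_fintype_card, ← hq]
    exact Nat.gcd_eq_left ⟨(q - 1) / 2, by omega⟩
  have hcardP : 2 * Nat.card PP = q * (q ^ 2 - 1) := by
    have := Dickson.zz_mul_card (F := F)
    rwa [hzz, Nat.card_eq_fintype_card (α := F), ← hq] at this
  obtain ⟨t, ht⟩ : ∃ t, q * (q ^ 2 - 1) = 8 * (2 * t + 1) := by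
    obtain ⟨r, hr⟩ : ∃ r, q = 8 * r + 3 ∨ q = 8 * r + 5 := ⟨q / 8, by omega⟩
    rcases hr with hr | hr
    · have e : q ^ 2 - 1 = 8 * (8 * r * r + 6 * r + 1) := by
        rw [hr, show (8 * r + 3) ^ 2 = 8 * (8 * r * r + 6 * r + 1) + 1 by ring]; simp
      have ho : Odd (q * (8 * r * r + 6 * r + 1)) := hodd.mul ⟨4 * r * r + 3 * r, by ring⟩
      obtain ⟨t, ht⟩ := ho
      exact ⟨t, by rw [e, ← ht]; ring⟩
    · have e : q ^ 2 - 1 = 8 * (8 * r * r + 10 * r + 3) := by
        rw [hr, show (8 * r + 5) ^ 2 = 8 * (8 * r * r + 10 * r + 3) + 1 by ring]; simp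
      have ho : Odd (q * (8 * r * r + 10 * r + 3)) := hodd.mul ⟨4 * r * r + 5 * r + 1, by ring⟩
      obtain ⟨t, ht⟩ := ho
      exact ⟨t, by rw [e, ← ht]; ring⟩
  have hP4 : Nat.card PP = 4 * (2 * t + 1) := by omega
  have h8n : ¬ 8 ∣ Nat.card PP := by omega
  obtain ⟨V⟩ : Nonempty (Sylow 2 PP) := inferInstance
  have hV : Nat.card (V : Subgroup PP) = 4 := by
    rw [Sylow.card_eq_multiplicity, hP4, Nat.factorization_mul (by norm_num) (by omega), Finsupp.add_apply,
      show (4 : ℕ) = 2 ^ 2 by norm_num, Nat.factorization_pow, Finsupp.smul_apply,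
      Nat.Prime.factorization_self Nat.prime_two, Nat.factorization_eq_zero_of_not_dvd (by omega)]
    norm_num
  have hab : IsMulCommutative (V : Subgroup PP) := IsPGroup.isMulCommutative_of_card_eq_prime_sq (p := 2) (by rw [hV]; norm_num)
  set N := Subgroup.normalizer ((V : Subgroup PP) : Set PP)
  have hN12 : Nat.card N = 12 := by
    set pr := (PSL2Inv.pr (F := F))
    have hker : pr.ker = Subgroup.center (SpecialLinearGroup (Fin 2) F) := QuotientGroup.ker_mk' _
    have hc : Nat.card ((V : Subgroup PP).comap pr) = 8 := by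
      have h1 := Subgroup.card_mul_index ((V : Subgroup PP).comap pr)
      rw [Subgroup.index_comap_of_surjective _ PSL2Inv.pr_surjective,
        ← Subgroup.card_mul_index (Subgroup.center (SpecialLinearGroup (Fin 2) F)), hzz] at h1
      have h2 : (Subgroup.center (SpecialLinearGroup (Fin 2) F)).index = Nat.card PP := rfl
      rw [h2, ← Subgroup.card_mul_index (V : Subgroup PP), hV, ← mul_assoc] at h1
      exact Nat.eq_of_mul_eq_mul_right (Nat.pos_of_ne_zero Subgroup.index_ne_zero_of_finite) h1
    have hfac : (Nat.card (SpecialLinearGroup (Fin 2) F)).factorization 2 = 3 := by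
      rw [← Subgroup.card_mul_index (Subgroup.center (SpecialLinearGroup (Fin 2) F)), hzz,
        show (Subgroup.center (SpecialLinearGroup (Fin 2) F)).index = Nat.card PP from rfl, hP4,
        show 2 * (4 * (2 * t + 1)) = 2 ^ 3 * (2 * t + 1) by ring, Nat.factorization_mul (by norm_num) (by omega),
        Finsupp.add_apply, Nat.factorization_pow, Finsupp.smul_apply,
        Nat.Prime.factorization_self Nat.prime_two, Nat.factorization_eq_zero_of_not_dvd (by omega)]
      norm_num
    set S : Sylow 2 (SpecialLinearGroup (Fin 2) F) :=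
      Sylow.ofCard ((V : Subgroup PP).comap pr) (by rw [hc, hfac]; norm_num)
    have h24 := (SL2SylowNormalizer.two_sylow hodd S).2.2 h8
    rw [show ((S : Subgroup (SpecialLinearGroup (Fin 2) F))) = (V : Subgroup PP).comap pr from rfl,
      ← Subgroup.comap_normalizer_eq_of_surjective _ PSL2Inv.pr_surjective] at h24
    change Nat.card (N.comap pr) = 3 * Nat.card ((V : Subgroup PP).comap pr) at h24
    have h1 := Subgroup.card_mul_index (N.comap pr)
    rw [h24, hc, Subgroup.index_comap_of_surjective _ PSL2Inv.pr_surjective,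
      ← Subgroup.card_mul_index (Subgroup.center (SpecialLinearGroup (Fin 2) F)), hzz,
      show (Subgroup.center (SpecialLinearGroup (Fin 2) F)).index = Nat.card PP from rfl,
      ← Subgroup.card_mul_index N, ← mul_assoc] at h1
    have := Nat.eq_of_mul_eq_mul_right (Nat.pos_of_ne_zero Subgroup.index_ne_zero_of_finite) h1
    omega
  have hVN : (V : Subgroup PP) ≤ N := Subgroup.le_normalizer
  have hbetween : ∀ X : Subgroup PP, (V : Subgroup PP) ≤ X → X ≤ N → X = (V : Subgroup PP) ∨ X = N := by
    intro X h1 h2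
    obtain ⟨a, ha⟩ := Subgroup.card_dvd_of_le h1
    obtain ⟨b, hb⟩ := Subgroup.card_dvd_of_le h2
    rw [hN12, ha, hV, mul_assoc] at hb
    have hab' : a * b = 3 := by omega
    rcases Nat.prime_three.eq_one_or_self_of_dvd a (Dvd.intro _ hab') with e | e
    · exact Or.inl (Subgroup.eq_of_le_of_card_ge h1 (by rw [ha, hV, e])).symm
    · exact Or.inr (Subgroup.eq_of_le_of_card_ge h2 (by rw [ha, hV, hN12, e]))
  have hC : N ⊓ Subgroup.centralizer ((V : Subgroup PP) : Set PP) = (V : Subgroup PP) := by
    refine (hbetween _ (le_inf hVN (Subgroup.le_centralizer _)) inf_le_left).resolve_right fun h => ?_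
    have hP : N ≤ Subgroup.centralizer ((V : Subgroup PP) : Set PP) := inf_eq_left.1 h
    have hO := MonoidHom.ker_transferSylow_isComplement' V hP
    have hc := hO.card_mul
    rw [hV] at hc
    rcases hs.eq_bot_or_eq_top_of_normal _ (MonoidHom.normal_ker (MonoidHom.transferSylow V hP)) with e | e
    · rw [e, Subgroup.card_bot, one_mul] at hc
      have := Subgroup.card_subgroup_dvd_card N
      rw [hN12, ← hc] at this
      norm_num at this
    · rw [e, Subgroup.card_top] at hc
      have := Nat.card_pos (α := PP)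
      omega
  have hmove : ∀ g ∈ N, g ∉ (V : Subgroup PP) → ∀ z ∈ (V : Subgroup PP), z ≠ 1 → g * z * g⁻¹ ≠ z := by
    intro g hg hgV z hz hz1 hgz
    -- the centralizer of `z` in `N` is everything
    have hNz : N ≤ Subgroup.centralizer {z} := by
      have h1 : (V : Subgroup PP) ≤ N ⊓ Subgroup.centralizer {z} := le_inf hVN fun v hv =>
        Subgroup.mem_centralizer_singleton_iff.2 (congrArg Subtype.val (hab.is_comm.comm (⟨v, hv⟩ : (V : Subgroup PP)) ⟨z, hz⟩))
      rcases hbetween _ h1 inf_le_left with h | h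
      · exact absurd (h.le ⟨hg, Subgroup.mem_centralizer_singleton_iff.2 (mul_inv_eq_iff_eq_mul.1 hgz)⟩) hgV
      · exact inf_eq_left.1 h
    -- the action on the two remaining elements has order at most two
    have hg2 : g ^ 2 ∈ (V : Subgroup PP) := by
      rw [← hC]
      refine ⟨pow_mem hg 2, Subgroup.mem_centralizer_iff.2 fun y hy => ?_⟩
      by_cases hy1 : y = 1
      · simp [hy1]
      by_cases hyz : y = z
      · rw [hyz]
        exact (Subgroup.mem_centralizer_singleton_iff.1 (pow_mem (hNz hg) 2)).symm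
      have hgy : ∀ x, x ∈ (V : Subgroup PP) → g * x * g⁻¹ ∈ (V : Subgroup PP) := fun x hx =>
        (Subgroup.mem_normalizer_iff.1 hg x).1 hx
      set f : ↥(V : Subgroup PP) → ↥(V : Subgroup PP) := fun x => ⟨g * x * g⁻¹, hgy x x.2⟩
      have hfi : Function.Injective f := fun a b h => Subtype.ext (by simpa [f] using h)
      haveI : Fintype (V : Subgroup PP) := Fintype.ofFinite _
      have hcardF : Fintype.card (V : Subgroup PP) = 4 := by rw [← Nat.card_eq_fintype_card]; exact hV
      set s : Finset (V : Subgroup PP) := Finset.univ \ {1, ⟨z, hz⟩}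
      have hs2 : s.card = 2 := by
        rw [Finset.card_sdiff_of_subset (Finset.subset_univ _), Finset.card_univ, hcardF,
          Finset.card_pair (fun h => hz1 (congrArg Subtype.val h).symm)]
      have hf1 : f 1 = 1 := Subtype.ext (by simp [f])
      have hfz : f ⟨z, hz⟩ = ⟨z, hz⟩ := Subtype.ext hgz
      have hfs : ∀ x ∈ s, f x ∈ s := by
        intro x hx
        simp only [s, Finset.mem_sdiff, Finset.mem_univ, true_and, Finset.mem_insert, Finset.mem_singleton, not_or] at hx ⊢
        exact ⟨fun h => hx.1 (hfi (h.trans hf1.symm)), fun h => hx.2 (hfi (h.trans hfz.symm))⟩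
      have hys : (⟨y, hy⟩ : (V : Subgroup PP)) ∈ s := by simp [s, hy1, hyz]
      have key : f (f ⟨y, hy⟩) = ⟨y, hy⟩ := by
        by_contra h
        have h3 : ({⟨y, hy⟩, f ⟨y, hy⟩, f (f ⟨y, hy⟩)} : Finset (V : Subgroup PP)) ⊆ s := by
          simp [Finset.insert_subset_iff, hys, hfs _ hys, hfs _ (hfs _ hys)]
        by_cases h01 : f ⟨y, hy⟩ = ⟨y, hy⟩
        · exact h (by rw [h01, h01])
        have := Finset.card_le_card h3
        rw [hs2, Finset.card_insert_of_notMem (by simp [Ne.symm h01, Ne.symm h]),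
          Finset.card_pair (fun e => h01 (hfi e).symm)] at this
        omega
      have := congrArg Subtype.val key
      simp only [f] at this
      rw [show g * (g * y * g⁻¹) * g⁻¹ = g ^ 2 * y * (g ^ 2)⁻¹ by simp [sq, mul_assoc]] at this
      exact (mul_inv_eq_iff_eq_mul.1 this).symm
    have hg12 : g ^ 12 = 1 := by
      have h := pow_card_eq_one' (x := (⟨g, hg⟩ : N))
      rw [hN12] at h
      exact congrArg Subtype.val h
    refine hgV ?_
    have hg3 : g ^ 3 ∈ (V : Subgroup PP) := by
      have hp : IsPGroup 2 (Subgroup.zpowers (g ^ 3)) := by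
        intro x
        obtain ⟨j, hj⟩ := x.2
        refine ⟨2, Subtype.ext ?_⟩
        show (x : PP) ^ (2 ^ 2) = 1
        rw [← hj, ← zpow_natCast, ← _root_.zpow_mul, mul_comm, _root_.zpow_mul, zpow_natCast, show (g ^ 3) ^ (2 ^ 2) = 1 by rw [← pow_mul]; exact hg12,
          _root_.one_zpow]
      have := IsPGroup.to_sup_of_normal_right' hp V.isPGroup' (Subgroup.zpowers_le.2 (pow_mem hg 3))
      exact V.is_maximal' this le_sup_right ▸ Subgroup.mem_sup_left (Subgroup.mem_zpowers _)
    have : g = g ^ 3 * (g ^ 2)⁻¹ := by simp [pow_succ, mul_assoc]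
    rw [this]
    exact mul_mem hg3 (inv_mem hg2)
  refine pronormal_of_normalizer' V (fun H hle g hg => ?_) hK
  by_cases hgV : g ∈ (V : Subgroup PP)
  · exact Or.inr (Subgroup.mem_sup_left (hle hgV))
  set J := H ⊔ H.map (MulAut.conj g).toMonoidHom with hJ
  by_cases hgJ : g ∈ J
  · exact Or.inr hgJ
  left
  have hVJ : (V : Subgroup PP) ≤ J := hle.trans le_sup_left
  have hNJ : N ⊓ J = (V : Subgroup PP) :=
    (hbetween _ (le_inf hVN hVJ) inf_le_left).resolve_right fun h => hgJ ((inf_eq_left.1 h) hg)
  -- the Sylow subgroup inside J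
  set VJ : Sylow 2 J := V.subtype hVJ
  have hVJc : Nat.card (VJ : Subgroup J) = 4 := by
    rw [← hV]; exact Nat.card_congr (Subgroup.subgroupOfEquivOfLe hVJ).toEquiv
  have hVJab : IsMulCommutative (VJ : Subgroup J) := IsPGroup.isMulCommutative_of_card_eq_prime_sq (p := 2) (by rw [hVJc]; norm_num)
  have hVJn : Subgroup.normalizer ((VJ : Subgroup J) : Set J) ≤ (VJ : Subgroup J) := by
    intro x hx
    have : (x : PP) ∈ N ⊓ J := by
      refine ⟨Subgroup.mem_normalizer_iff.2 fun y => ⟨fun hy => ?_, fun hy => ?_⟩, x.2⟩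
      · exact (Subgroup.mem_normalizer_iff.1 hx ⟨y, hVJ hy⟩).1 hy
      · have hyJ : y ∈ J := by
          have h2 := mul_mem (mul_mem (inv_mem x.2) (hVJ hy)) x.2
          simpa [mul_assoc] using h2
        exact (Subgroup.mem_normalizer_iff.1 hx ⟨y, hyJ⟩).2 hy
    rw [hNJ] at this
    exact this
  -- a central involution of J
  obtain ⟨z, hzc, hz2, hz1⟩ : ∃ z ∈ Subgroup.center J, z * z = 1 ∧ z ≠ 1 := by
    obtain ⟨p, hp⟩ := CharP.exists F
    have : Fact p.Prime := ⟨(FiniteField.card F p).choose_spec.1⟩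
    have h4J : 4 ∣ Nat.card J := hV ▸ Subgroup.card_dvd_of_le hVJ
    have hn8 : ¬ 8 ∣ Nat.card J := fun h => h8n (h.trans (Subgroup.card_subgroup_dvd_card J))
    rcases Dickson.classify p J with ⟨k, -, ⟨hcy, -⟩ | ⟨⟨e⟩⟩⟩ | ⟨S, hS⟩ | ⟨-, -, ⟨e⟩⟩ | ⟨-, -, ⟨e⟩⟩ | ⟨-, -, ⟨e⟩⟩ |
        ⟨K0, i1, i2, m, hm, ⟨f, -⟩, ⟨⟨e⟩⟩ | ⟨⟨e⟩⟩⟩
    · -- cyclic
      exfalso
      obtain ⟨v, hv1, hv2⟩ : ∃ v : (V : Subgroup PP), v * v = 1 ∧ v ≠ 1 := by
        obtain ⟨x, hx⟩ := exists_prime_orderOf_dvd_card' (G := (V : Subgroup PP)) 2 (by rw [hV]; norm_num)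
        refine ⟨x, ?_, fun h => by simp [h] at hx⟩
        have := pow_orderOf_eq_one x
        rwa [hx, sq] at this
      haveI := hcy
      have hw : g * (v : PP) * g⁻¹ ∈ (V : Subgroup PP) := (Subgroup.mem_normalizer_iff.1 hg _).1 v.2
      set a : J := ⟨v, hVJ v.2⟩
      set b : J := ⟨g * (v : PP) * g⁻¹, hVJ hw⟩
      have hv1' : (v : PP) * v = 1 := congrArg Subtype.val hv1
      have hb2 : b * b = 1 := Subtype.ext (by
        show g * (v : PP) * g⁻¹ * (g * (v : PP) * g⁻¹) = 1
        rw [show g * (v : PP) * g⁻¹ * (g * (v : PP) * g⁻¹) = g * ((v : PP) * v) * g⁻¹ by group, hv1', mul_one,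
          mul_inv_cancel])
      have ha2 : a * a = 1 := Subtype.ext hv1'
      refine hmove g hg hgV v v.2 (fun h => hv2 (Subtype.ext h)) ?_
      have hv0 : (v : PP) ≠ 1 := fun h => hv2 (Subtype.ext h)
      have hsub : ({1, a, b} : Set J) ⊆ {x | x ^ 2 = 1} := by
        rintro x (rfl | rfl | rfl) <;> simp [sq, ha2, hb2]
      by_contra hab'
      haveI : Fintype J := Fintype.ofFinite _
      have h3 := (Finset.card_le_card (s := ({1, a, b} : Finset J)) (t := Finset.univ.filter fun x : J => x ^ 2 = 1)
        (by intro x hx; simp at hx; rcases hx with rfl | rfl | rfl <;> simp [sq, ha2, hb2])).trans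
        (IsCyclic.card_pow_eq_one_le zero_lt_two)
      rw [Finset.card_insert_of_notMem (by
          simp only [Finset.mem_insert, Finset.mem_singleton, not_or]
          refine ⟨fun h => hv0 (congrArg Subtype.val h).symm, fun h => hv0 ?_⟩
          have : g * (v : PP) * g⁻¹ = 1 := (congrArg Subtype.val h).symm
          simpa using this), Finset.card_pair (fun h => hab' (congrArg Subtype.val h).symm)] at h3
      omega
    · -- dihedral
      have hk : Nat.card J = 2 * k := by rw [Nat.card_congr e.toEquiv, DihedralGroup.nat_card]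
      have hk0 : k ≠ 0 := by
        rintro rfl
        exact Nat.card_pos.ne' hk
      obtain ⟨z, hz, hz2, hz1⟩ := center_dihedral (k := k) (by rw [even_iff_two_dvd]; omega) hk0
      exact ⟨e.symm z, Subgroup.mem_center_iff.2 fun x => e.injective (by
        simpa using Subgroup.mem_center_iff.1 hz (e x)), by rw [← map_mul, hz2, map_one],
        fun h => hz1 (by simpa using congrArg e h)⟩
    · -- Borel
      exfalso
      have h1 := Dickson.card_normalizer_sylow p S
      rw [hzz, Nat.card_eq_fintype_card (α := F), ← hq] at h1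
      obtain ⟨c, hc⟩ := h4J.trans (Subgroup.card_dvd_of_le hS)
      rw [hc] at h1
      obtain ⟨r, hr⟩ : ∃ r, q = 8 * r + 3 ∨ q = 8 * r + 5 := ⟨q / 8, by omega⟩
      rcases hr with hr | hr <;> rw [hr] at h1
      · have : (8 * r + 3) * (8 * r + 3 - 1) = 8 * (8 * r * r + 5 * r) + 6 := by
          rw [show 8 * r + 3 - 1 = 8 * r + 2 by omega]; ring
        omega
      · have : (8 * r + 5) * (8 * r + 5 - 1) = 8 * (8 * r * r + 9 * r + 2) + 4 := by
          rw [show 8 * r + 5 - 1 = 8 * r + 4 by omega]; ring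
        omega
    · exact central_of_card_twelve VJ hVJab hVJc (by
        rw [Nat.card_congr e.toEquiv, nat_card_alternatingGroup, Nat.card_fin]; rfl) hVJn
    · exact absurd (by rw [Nat.card_congr e.toEquiv, Nat.card_perm, Nat.card_fin]; decide) hn8
    · exact absurd (by
        haveI : IsSimpleGroup (alternatingGroup (Fin 5)) := alternatingGroup.isSimpleGroup_five
        haveI : Nontrivial J := e.toEquiv.nontrivial
        exact IsSimpleGroup.isSimpleGroup_of_surjective e.symm.toMonoidHom e.symm.surjective)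
        (not_simple_of_self_normalizing VJ hVJab hVJc hVJn)
    · -- PSL(2, K0)
      have hK2 : Nat.card K0 ≠ 2 := by
        intro h2
        rw [← Nat.card_eq_fintype_card (α := F)] at hq
        rw [← Nat.card_eq_fintype_card (α := K0), h2, ← hq] at hm
        have : Odd (2 ^ m) := hm ▸ hodd
        rcases m with _ | m
        · simp at hm; omega
        · exact Nat.not_even_iff_odd.2 this ⟨2 ^ m, by ring⟩
      rcases (Nat.lt_or_ge (Nat.card K0) 4) with h4 | h4
      · have h1 := Finite.one_lt_card (α := K0)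
        have h3 : Nat.card K0 = 3 := by omega
        refine central_of_card_twelve VJ hVJab hVJc ?_ hVJn
        have := Dickson.gcd_mul_card_psl (K := K0)
        rw [h3] at this
        rw [Nat.card_congr e.toEquiv]
        norm_num at this
        rw [← Nat.card_eq_fintype_card] at this; omega
      · haveI := Matrix.ProjectiveSpecialLinearGroup.rank_two_simple (F := K0) h4
        haveI : Nontrivial J := e.toEquiv.nontrivial
        exact absurd (IsSimpleGroup.isSimpleGroup_of_surjective e.symm.toMonoidHom e.symm.surjective)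
          (not_simple_of_self_normalizing VJ hVJab hVJc hVJn)
    · -- PGL(2, K0)
      exfalso
      apply hn8
      rw [Nat.card_congr e.toEquiv, Dickson.card_pgl2]
      have hoddK : Odd (Nat.card K0) := by
        rw [Nat.card_eq_fintype_card]
        have h2 : Odd (Fintype.card K0 ^ m) := by
          rw [hm, Nat.card_eq_fintype_card]; exact hodd
        exact (Nat.odd_pow_iff (by rintro rfl; rw [pow_zero, Nat.card_eq_fintype_card] at hm; omega)).1 h2
      exact (Nat.eight_dvd_sq_sub_one_of_odd hoddK).mul_left _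
  -- z lies in V
  have hzV : (z : PP) ∈ (V : Subgroup PP) := by
    have : (z : PP) ∈ N ⊓ J := by
      refine ⟨Subgroup.mem_normalizer_iff.2 fun y => ⟨fun hy => ?_, fun hy => ?_⟩, z.2⟩
      · have := congrArg Subtype.val (Subgroup.mem_center_iff.1 hzc ⟨y, hVJ hy⟩)
        simp only [Subgroup.coe_mul] at this
        rwa [← this, mul_inv_cancel_right]
      · have hyJ : y ∈ J := by
          have h2 := mul_mem (mul_mem (inv_mem z.2) (hVJ hy)) z.2
          simpa [mul_assoc] using h2
        have := congrArg Subtype.val (Subgroup.mem_center_iff.1 hzc ⟨y, hyJ⟩)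
        simp only [Subgroup.coe_mul] at this
        rwa [← this, mul_inv_cancel_right] at hy
    rwa [hNJ] at this
  have hz1' : (z : PP) ≠ 1 := fun h => hz1 (Subtype.ext h)
  set z' : PP := g⁻¹ * z * g
  have hz'V : z' ∈ (V : Subgroup PP) := by
    have := (Subgroup.mem_normalizer_iff.1 (inv_mem hg) _).1 hzV
    simpa [z'] using this
  have hne : z' ≠ z := fun h => hmove g hg hgV _ hzV hz1' (by
    conv_lhs => rw [← h]
    simp [z', mul_assoc])
  have hHle : H ≤ (V : Subgroup PP) := by
    intro x hx
    have hc1 : Commute x (z : PP) :=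
      congrArg Subtype.val (Subgroup.mem_center_iff.1 hzc ⟨x, le_sup_left (a := H) hx⟩)
    have hgx : g * x * g⁻¹ ∈ J := Subgroup.mem_sup_right ⟨x, hx, rfl⟩
    have hc2 : Commute x z' := by
      have h1 : Commute (g * x * g⁻¹) (z : PP) := congrArg Subtype.val (Subgroup.mem_center_iff.1 hzc ⟨_, hgx⟩)
      have := h1.map (MulAut.conj g⁻¹).toMonoidHom
      simpa [z', mul_assoc] using this
    -- z and z' generate V
    have hgen : (V : Subgroup PP) ≤ Subgroup.closure {(z : PP), z'} := by
      have hle' : Subgroup.closure {(z : PP), z'} ≤ (V : Subgroup PP) :=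
        (Subgroup.closure_le _).2 (by rintro y (rfl | rfl) <;> assumption)
      refine (Subgroup.eq_of_le_of_card_ge hle' ?_).ge
      have hd := Subgroup.card_dvd_of_le hle'
      rw [hV] at hd
      have h3 : 3 ≤ Nat.card (Subgroup.closure {(z : PP), z'}) := by
        have hz'1 : z' ≠ 1 := fun h => hz1' (by simpa [z', mul_assoc] using congrArg (fun y => g * y * g⁻¹) h)
        calc 3 = Nat.card ({1, (z : PP), z'} : Set PP) := by
              rw [Nat.card_coe_set_eq, Set.ncard_insert_of_notMem (by simp [hz1'.symm, hz'1.symm]),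
                Set.ncard_pair hne.symm]
          _ ≤ _ := Nat.card_mono (Set.toFinite _) (by
              rintro y (rfl | rfl | rfl)
              · exact one_mem _
              · exact Subgroup.subset_closure (by simp)
              · exact Subgroup.subset_closure (by simp))
      have := Nat.le_of_dvd (by norm_num) hd
      rw [hV]
      interval_cases h : Nat.card (Subgroup.closure {(z : PP), z'}) <;> omega
    have hxN : x ∈ Subgroup.centralizer ((V : Subgroup PP) : Set PP) := by
      refine Subgroup.mem_centralizer_iff.2 fun y hy => ?_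
      have : Subgroup.closure {(z : PP), z'} ≤ Subgroup.centralizer {x} :=
        (Subgroup.closure_le _).2 (by
          rintro y (rfl | rfl)
          · exact Subgroup.mem_centralizer_singleton_iff.2 hc1.eq.symm
          · exact Subgroup.mem_centralizer_singleton_iff.2 hc2.eq.symm)
      exact Subgroup.mem_centralizer_singleton_iff.1 (this (hgen hy))
    rw [← hC]
    exact ⟨Subgroup.centralizer_le_normalizer _ hxN, hxN⟩
  rw [le_antisymm hHle hle]
  exact hg

/-- Subgroups of odd index in PSL(2, q), q odd. -/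
theorem pronormal_psl_two (hodd : Odd (Fintype.card F)) (hs : IsSimpleGroup PP) {K : Subgroup PP}
    (hK : Odd K.index) : Cfsg.IsPronormal K := by
  rcases (show (Fintype.card F % 8 = 3 ∨ Fintype.card F % 8 = 5) ∨ (Fintype.card F % 8 = 1 ∨ Fintype.card F % 8 = 7) by
    have := Nat.odd_iff.1 hodd; omega) with h | h
  · exact pronormal_psl_two_small h hs hK
  · obtain ⟨S⟩ : Nonempty (Sylow 2 (SpecialLinearGroup (Fin 2) F)) := inferInstance
    refine pronormal_quotient (Subgroup.center (SpecialLinearGroup (Fin 2) F)) le_rfl S (fun H hH _ => ?_) hK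
    rw [(SL2SylowNormalizer.two_sylow hodd S).2.1 h]
    exact hH.trans Subgroup.le_normalizer

end Cfsg.Agent.OddPro
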