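/-
GU on an arbitrary index type, its 2-part, and transport to PSU.
-/
import Cfsg.Agent.Lib.OddIndexPro.Basic
import Cfsg.Agent.Lib.Blocks.SylowTwoClassical
import Cfsg.Agent.Lib.LinearBlock.UnitarySimilar
import Cfsg.Agent.Lib.Classical.HermStd
import Cfsg.Prelude.Def_LieClassical

set_option autoImplicit false

namespace Cfsg.Agent.OddPro

open Matrix LBUnitary

variable {F : Type*} [Field F] {κ : Type} [Fintype κ] [DecidableEq κ]

/-- The matrices unitary for the standard form. -/
def GUk (κ : Type) [Fintype κ] [DecidableEq κ] (σ : F →+* F) : Subgroup (GL κ F) where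
  carrier := {g | star' σ (g : Matrix κ κ F) * (g : Matrix κ κ F) = 1}
  one_mem' := by simp [star_one']
  mul_mem' {g h} hg hh := by
    show star' σ ((g : Matrix κ κ F) * (h : Matrix κ κ F)) * ((g : Matrix κ κ F) * (h : Matrix κ κ F)) = 1
    rw [LBUnitary.star_mul', mul_assoc, ← mul_assoc (star' σ (g : Matrix κ κ F)),
      show star' σ (g : Matrix κ κ F) * g = 1 from hg, one_mul]
    exact hh
  inv_mem' {g} hg := by
    have h1 : (g : Matrix κ κ F) * star' σ (g : Matrix κ κ F) = 1 := mul_eq_one_comm.1 hg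
    have h2 : star' σ ((g⁻¹ : GL κ F) : Matrix κ κ F) * star' σ (g : Matrix κ κ F) = 1 := by
      rw [← LBUnitary.star_mul', Units.mul_inv, star_one']
    have h3 : star' σ ((g⁻¹ : GL κ F) : Matrix κ κ F) = (g : Matrix κ κ F) :=
      left_inv_eq_right_inv h2 (mul_eq_one_comm.1 h1)
    show star' σ ((g⁻¹ : GL κ F) : Matrix κ κ F) * _ = 1
    rw [h3, Units.mul_inv]

theorem mem_GUk {σ : F →+* F} {g : GL κ F} :
    g ∈ GUk κ σ ↔ star' σ (g : Matrix κ κ F) * (g : Matrix κ κ F) = 1 := Iff.rfl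

/-- The determinant on GU. -/
def detU (κ : Type) [Fintype κ] [DecidableEq κ] (σ : F →+* F) : GUk κ σ →* Fˣ :=
  Matrix.GeneralLinearGroup.det.comp (GUk κ σ).subtype

section Reindex

variable {n q : ℕ} {σ : F →+* F}

/-- Reindexing. -/
def reind (e : κ ≃ Fin n) : GL κ F ≃* GL (Fin n) F :=
  Units.mapEquiv (Matrix.reindexAlgEquiv F F e).toMulEquiv

theorem reind_val (e : κ ≃ Fin n) (g : GL κ F) :
    ((reind e g : GL (Fin n) F) : Matrix (Fin n) (Fin n) F) = (g : Matrix κ κ F).submatrix e.symm e.symm := rfl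

theorem reind_mem (hσ : ∀ x, σ x = x ^ q) (hinv : ∀ a, σ (σ a) = a) (e : κ ≃ Fin n) (g : GL κ F) :
    reind e g ∈ Cfsg.GU n F q ↔ g ∈ GUk κ σ := by
  rw [mem_GU hσ hinv, mem_GUk, reind_val, show star' σ ((g : Matrix κ κ F).submatrix e.symm e.symm) =
    (star' σ (g : Matrix κ κ F)).submatrix e.symm e.symm from rfl, Matrix.submatrix_mul_equiv]
  constructor
  · intro h
    have := congrArg (fun M : Matrix (Fin n) (Fin n) F => M.submatrix e e) h
    simpa [Matrix.submatrix_submatrix, Matrix.submatrix_one_equiv] using this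
  · intro h
    rw [h, Matrix.submatrix_one_equiv]

theorem card_GUk (hσ : ∀ x, σ x = x ^ q) (hinv : ∀ a, σ (σ a) = a) (e : κ ≃ Fin n) :
    Nat.card (GUk κ σ) = Nat.card (Cfsg.GU n F q) :=
  Nat.card_congr ((reind e).toEquiv.subtypeEquiv fun g => (reind_mem hσ hinv e g).symm)

/-- From the kernel of the determinant on GU to PSU. -/
theorem pronormal_psu_of_ker (hσ : ∀ x, σ x = x ^ q) (hinv : ∀ a, σ (σ a) = a) (e : κ ≃ Fin n)
    (h : ∀ K : Subgroup ((detU κ σ).ker ⧸ Subgroup.center (detU κ σ).ker), Odd K.index → Cfsg.IsPronormal K)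
    {K : Subgroup (Cfsg.PSU n F q)} (hK : Odd K.index) : Cfsg.IsPronormal K := by
  have hker : ∀ g : GUk κ σ, g ∈ (detU κ σ).ker →
      (((reind e (g : GL κ F) : GL (Fin n) F) : Matrix (Fin n) (Fin n) F)).det = 1 := fun g hg => by
    rw [reind_val, Matrix.det_submatrix_equiv_self]
    exact congrArg Units.val hg
  let φ : (detU κ σ).ker →* Matrix.SpecialLinearGroup (Fin n) F :=
    MonoidHom.mk' (fun g => ⟨_, hker g.1 g.2⟩) fun a b => Subtype.ext
      (congrArg Units.val (map_mul (reind e) ((a : GUk κ σ) : GL κ F) ((b : GUk κ σ) : GL κ F)))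
  have hφ : Function.Injective φ := fun a b hab =>
    Subtype.ext (Subtype.ext ((reind e).injective (Units.ext (congrArg Subtype.val hab))))
  have hrange : φ.range = Cfsg.SU n F q := by
    ext s
    have hs : s ∈ Cfsg.SU n F q ↔ Matrix.SpecialLinearGroup.toGL s ∈ Cfsg.GU n F q := Iff.rfl
    rw [hs]
    constructor
    · rintro ⟨g, rfl⟩
      have := (reind_mem hσ hinv e _).2 g.1.2
      convert this using 1
      exact Units.ext rfl
    · intro hs
      have hmem : (reind e).symm (Matrix.SpecialLinearGroup.toGL s) ∈ GUk κ σ :=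
        (reind_mem hσ hinv e _).1 (by rwa [MulEquiv.apply_symm_apply])
      have hd : (⟨_, hmem⟩ : GUk κ σ) ∈ (detU κ σ).ker := by
        refine Units.ext ?_
        show (((reind e).symm (Matrix.SpecialLinearGroup.toGL s) : GL κ F) : Matrix κ κ F).det = 1
        rw [← Matrix.det_submatrix_equiv_self e.symm, ← reind_val, MulEquiv.apply_symm_apply]
        exact s.2
      exact ⟨⟨_, hd⟩, Subtype.ext (congrArg Units.val ((reind e).apply_symm_apply _))⟩
  exact pronormal_centerQuot_equiv ((MonoidHom.ofInjective hφ).trans (MulEquiv.subgroupCongr hrange)) h hK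

end Reindex

section Val

variable {q : ℕ}

theorem val_odd_pow_add_one (hq1 : 1 < q) (hq : Odd q) (k : ℕ) :
    padicValNat 2 (q ^ (2 * k + 1) + 1) = padicValNat 2 (q + 1) := by
  have h1 : ∀ x : ℕ, 1 < x → padicValNat 2 (x ^ 2 - 1) = padicValNat 2 (x + 1) + padicValNat 2 (x - 1) := by
    intro x hx
    rw [show x ^ 2 - 1 = (x + 1) * (x - 1) by rw [← Nat.sq_sub_sq, one_pow],
      padicValNat.mul (by omega) (by omega)]
  have e := h1 (q ^ (2 * k + 1)) (Nat.one_lt_pow (by omega) hq1)
  rw [← pow_mul, mul_comm (2 * k + 1) 2, SylTwoClassical.val_even_pow hq1 hq (2 * k),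
    SylTwoClassical.val_pred_pow hq1 hq (odd_two_mul_add_one k), h1 q hq1,
    padicValNat.eq_zero_of_not_dvd (n := 2 * k + 1) (by omega)] at e
  omega

theorem val_GU [Fintype F] (hF : Fintype.card F = q ^ 2) (hq : Odd q) (m : ℕ) :
    padicValNat 2 (Nat.card (Cfsg.GU (2 * m) F q)) =
      m * (padicValNat 2 (q + 1) + padicValNat 2 (q ^ 2 - 1)) + padicValNat 2 m.factorial := by
  have : Fact (Nat.Prime 2) := ⟨Nat.prime_two⟩
  obtain ⟨σ, hσ, hne, hinv, hfix, hq2⟩ := HermStd.exists_sigma hF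
  have hpos : ∀ i, (if Even i then q ^ (i + 1) + 1 else q ^ (i + 1) - 1) ≠ 0 := fun i => by
    have := Nat.one_lt_pow (Nat.succ_ne_zero i) (show 1 < q by omega)
    simp only [Nat.succ_eq_add_one] at this
    split_ifs <;> omega
  rw [HermStd.card_GU hne hinv hσ _ hfix, padicValNat.mul (pow_ne_zero _ (by omega))
    (Finset.prod_ne_zero_iff.2 fun i _ => hpos i),
    padicValNat.eq_zero_of_not_dvd (n := q ^ (2 * m * (2 * m - 1) / 2))
      (fun h => (Nat.not_even_iff_odd.2 hq.pow) (even_iff_two_dvd.2 h)), zero_add]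
  induction m with
  | zero => simp
  | succ m ih =>
    rw [show 2 * (m + 1) = 2 * m + 1 + 1 by ring, Finset.prod_range_succ, Finset.prod_range_succ,
      if_pos (even_two_mul m), if_neg (Nat.not_even_iff_odd.2 (odd_two_mul_add_one m)),
      show 2 * m + 1 + 1 = 2 * (m + 1) by ring]
    have hp : ∏ x ∈ Finset.range (2 * m), (if Even x then q ^ (x + 1) + 1 else q ^ (x + 1) - 1) ≠ 0 :=
      Finset.prod_ne_zero_iff.2 fun i _ => hpos i
    have h2 : q ^ (2 * (m + 1)) - 1 ≠ 0 := by
      have := Nat.one_lt_pow (show 2 * (m + 1) ≠ 0 by omega) (show 1 < q by omega)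
      omega
    rw [padicValNat.mul (mul_ne_zero hp (by omega)) h2, padicValNat.mul hp (by omega),
      val_odd_pow_add_one (by omega) hq, SylTwoClassical.val_even_pow (by omega) hq, ih,
      Nat.factorial_succ, padicValNat.mul (by omega) m.factorial_ne_zero]
    ring

end Val

end Cfsg.Agent.OddPro
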