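/-
PSU(2^w, q), q odd, w ≥ 2: subgroups of odd index are pronormal.
-/
import Cfsg.Agent.Lib.OddIndexPro.Monomial
import Cfsg.Agent.Lib.OddIndexPro.Restrict
import Cfsg.Agent.Lib.OddIndexPro.UnitaryGroup
import Cfsg.Agent.Lib.OddIndexPro.GUTwo

set_option autoImplicit false

namespace Cfsg.Agent.OddPro

open Matrix SylTwoWreath LBUnitary

variable {F : Type*} [Field F] [Fintype F] {q : ℕ} {σ : F →+* F}

theorem perm_unitary {κ : Type} [Fintype κ] [DecidableEq κ] (σ : F →+* F) (p : Equiv.Perm κ) :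
    star' σ (p.permMatrix F) * p.permMatrix F = 1 := by
  have h : (p.permMatrix F).map σ = p.permMatrix F := by
    ext i j
    simp only [Matrix.map_apply, Equiv.Perm.permMatrix, PEquiv.toMatrix_apply, apply_ite σ, map_one, map_zero]
  rw [star', h, Matrix.transpose_permMatrix, ← Matrix.permMatrix_mul, mul_inv_cancel, Matrix.permMatrix_one]

theorem star_diagonal {κ : Type} [Fintype κ] [DecidableEq κ] (σ : F →+* F) (v : κ → F) :
    star' σ (Matrix.diagonal v) = Matrix.diagonal fun i => σ (v i) := by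
  rw [star', Matrix.diagonal_map (map_zero σ), Matrix.diagonal_transpose]

theorem star_blockDiagonal {m : ℕ} (σ : F →+* F) (M : Fin m → Matrix (Fin 2) (Fin 2) F) :
    star' σ (Matrix.blockDiagonal M) = Matrix.blockDiagonal fun i => star' σ (M i) := by
  rw [star', Matrix.blockDiagonal_map _ _ (map_zero σ), Matrix.blockDiagonal_transpose]
  rfl

theorem scalar_central {κ : Type} [Fintype κ] [DecidableEq κ] {σ : F →+* F} {g : GUk κ σ} {r : F}
    (h : ((g : GL κ F) : Matrix κ κ F) = Matrix.diagonal fun _ => r) : g ∈ Subgroup.center (GUk κ σ) := by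
  refine Subgroup.mem_center_iff.2 fun M => Subtype.ext (Units.ext ?_)
  show ((M : GL κ F) : Matrix κ κ F) * ((g : GL κ F) : Matrix κ κ F) =
    ((g : GL κ F) : Matrix κ κ F) * ((M : GL κ F) : Matrix κ κ F)
  rw [h]
  ext x y
  rw [Matrix.mul_diagonal, Matrix.diagonal_mul, mul_comm]

/-- The case q ≡ 3 (mod 4). -/
theorem pronormal_unitary_three (hF : Fintype.card F = q ^ 2) (hσ : ∀ x, σ x = x ^ q)
    (hinv : ∀ a, σ (σ a) = a) (h3 : q % 4 = 3) {k : ℕ} (hk : 2 ≤ k)
    {K : Subgroup (Cfsg.PSU (2 ^ k) F q)} (hK : Odd K.index) : Cfsg.IsPronormal K := by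
  classical
  have : Fact (Nat.Prime 2) := ⟨Nat.prime_two⟩
  have hqodd : Odd q := Nat.odd_iff.2 (by omega)
  have hodd : Odd (Fintype.card F) := hF ▸ hqodd.pow
  have hne1 : (1 : Fˣ) ≠ -1 := fun h => one_ne_neg_one hodd (by simpa using congrArg Units.val h)
  set n := 2 ^ k with hn
  have hn4 : 4 ≤ n := by
    calc 4 = 2 ^ 2 := rfl
      _ ≤ n := Nat.pow_le_pow_right two_pos hk
  set A₀ : Subgroup Fˣ := (powMonoidHom (q + 1) : Fˣ →* Fˣ).ker
  have hA : ∀ a : Fˣ, a ∈ A₀ ↔ σ (a : F) * (a : F) = 1 := fun a => by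
    rw [MonoidHom.mem_ker, powMonoidHom_apply, hσ, ← Units.val_inj, Units.val_pow_eq_pow_val, pow_succ,
      Units.val_one]
  have hAc : Nat.card A₀ = q + 1 := by
    rw [IsCyclic.card_powMonoidHom_ker, Nat.card_eq_fintype_card, Fintype.card_units, hF,
      show q ^ 2 - 1 = (q + 1) * (q - 1) by rw [← Nat.sq_sub_sq, one_pow], Nat.gcd_mul_right_left]
  have hm1 : (-1 : Fˣ) ∈ A₀ := by rw [hA]; simp
  obtain ⟨W⟩ : Nonempty (Sylow 2 A₀) := inferInstance
  obtain ⟨T⟩ : Nonempty (Sylow 2 (Equiv.Perm (Fin n))) := inferInstance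
  have : Nonempty (Fin n) := ⟨⟨0, by omega⟩⟩
  obtain ⟨hTp, hTn, hTt⟩ := perm_sylow_facts k T
  set z : A₀ := ⟨-1, hm1⟩ with hzdef
  have hz2 : z * z = 1 := Subtype.ext (by simp [hzdef])
  have hz : z ∈ (W : Subgroup A₀) := by
    have hp : IsPGroup 2 (Subgroup.zpowers z) := by
      intro x
      obtain ⟨j, hj⟩ := x.2
      refine ⟨1, Subtype.ext ?_⟩
      show (x : A₀) ^ (2 ^ 1) = 1
      rw [← hj, pow_one, sq, ← _root_.zpow_add, show j + j = 2 * j by ring, _root_.zpow_mul, show z ^ (2 : ℤ) = 1 by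
        rw [zpow_two]; exact hz2, _root_.one_zpow]
    have := IsPGroup.to_sup_of_normal_right hp W.isPGroup'
    exact W.is_maximal' this le_sup_right ▸ Subgroup.mem_sup_left (Subgroup.mem_zpowers _)
  have hthird : ∀ i j : Fin n, ∃ l, l ≠ i ∧ l ≠ j := by
    intro i j
    obtain ⟨l, -, hl⟩ := Finset.exists_mem_notMem_of_card_lt_card (s := {i, j}) (t := Finset.univ)
      (lt_of_le_of_lt (Finset.card_le_two) (by simp; omega))
    exact ⟨l, by simpa using hl⟩
  have hval : ∀ a : A₀, a * a = 1 → a = 1 ∨ a = z := fun a h => by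
    rcases mul_self_eq_one_iff.1 (by simpa using congrArg (fun x : A₀ => ((x : Fˣ) : F)) h :
      ((a : Fˣ) : F) * (a : Fˣ) = 1) with e | e
    · exact Or.inl (Subtype.ext (Units.ext e))
    · exact Or.inr (Subtype.ext (Units.ext (by simpa [hzdef] using e)))
  obtain ⟨u, hu, hu2⟩ : ∃ u ∈ (W : Subgroup A₀), u * u ≠ 1 := by
    by_contra hcon
    simp only [not_exists, not_and, not_not] at hcon
    have hsub : Nat.card (W : Subgroup A₀) ≤ Nat.card ({1, z} : Set A₀) :=
      Nat.card_mono (Set.toFinite _) fun x hx => (hval x (hcon x hx)).elim Or.inl Or.inr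
    have h4 : 2 ^ 2 ∣ Nat.card (W : Subgroup A₀) := W.pow_dvd_card_of_pow_dvd_card (by
      rw [hAc]; omega)
    have := Nat.le_of_dvd Nat.card_pos h4
    rw [Nat.card_coe_set_eq] at hsub
    have := Set.ncard_insert_le (1 : A₀) {z}
    rw [Set.ncard_singleton] at this
    omega
  have hDmem : ∀ v : Fin n → Fˣ, (monoData F n).D v ∈ GUk (Fin n) σ ↔ ∀ i, v i ∈ A₀ := fun v => by
    rw [mem_GUk]
    show star' σ (Matrix.diagonal fun i => (v i : F)) * Matrix.diagonal (fun i => (v i : F)) = 1 ↔ _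
    rw [star_diagonal, Matrix.diagonal_mul_diagonal, Matrix.diagonal_eq_one, funext_iff]
    exact forall_congr' fun i => (hA _).symm
  have hP : ∀ τ, (monoData F n).perm τ ∈ GUk (Fin n) σ := fun τ => perm_unitary σ τ⁻¹
  let d := restrict (monoData F n) (GUk (Fin n) σ) A₀ (fun v hv => (hDmem v).2 hv) hP
  have hS : Setup d (detU (Fin n) σ) ((MonoidHom.id Fˣ).comp A₀.subtype) (W : Subgroup A₀)
      (T : Subgroup (Equiv.Perm (Fin n))) z :=
    { det_D := fun v => monoData_det fun i => (v i : Fˣ)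
      two := fun i => by obtain ⟨l, hl, -⟩ := hthird i i; exact ⟨l, hl⟩
      pW := W.isPGroup'
      zW := hz
      zc := Subgroup.mem_center_iff.2 fun a => mul_comm a z
      z2 := hz2
      invol := fun a _ h2 _ => hval a h2
      move := fun a b hab => by
        obtain ⟨l, hla, hlb⟩ := hthird a b
        refine ⟨Pi.mulSingle a u * Pi.mulSingle l u⁻¹, fun i => ?_, prod_pair hla u, ?_, ?_⟩
        · simp only [Pi.mul_apply, Pi.mulSingle_apply]
          split_ifs <;> simp [hu, mul_mem]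
        · simp [hab.symm, hlb.symm]
        · simp [hla.symm, hu2]
      norm := restrict_norm (monoData F n) _ A₀ _ hP (z := z)
        (fun g hg => mono_of_signs hodd hthird g hg) (fun v hv => (hDmem v).1 hv)
      cent := fun a _ _ => Subgroup.mem_center_iff.2 fun b => mul_comm b a
      pT := hTp
      nT := hTn
      tT := hTt
      lift := fun τ _ => by
        refine ⟨Pi.mulSingle ⟨0, by omega⟩ (if Equiv.Perm.sign τ = 1 then 1 else z), fun i => ?_, ?_⟩
        · simp only [Pi.mulSingle_apply]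
          split_ifs
          exacts [one_mem _, hz, one_mem _]
        · rw [MonoidHom.mem_ker, map_mul]
          show Matrix.GeneralLinearGroup.det ((monoData F n).D fun i => _) *
            Matrix.GeneralLinearGroup.det ((monoData F n).perm τ) = 1
          rw [monoData_det, Finset.prod_eq_single (⟨0, by omega⟩ : Fin n)
            (fun i _ hi => by rw [Pi.mulSingle_eq_of_ne hi]; rfl) (by simp), Pi.mulSingle_eq_same]
          refine Units.ext ?_
          show _ * ((Matrix.permMatrixHom τ : Matrix (Fin n) (Fin n) F)).det = 1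
          rw [Matrix.permMatrixHom_apply, Matrix.det_permutation, Equiv.Perm.sign_inv]
          rcases Int.units_eq_one_or (Equiv.Perm.sign τ) with e | e <;> simp [e, hzdef] }
  have hcard : Nat.card (wr d (W : Subgroup A₀) (T : Subgroup (Equiv.Perm (Fin n)))) =
      2 ^ padicValNat 2 (Nat.card (GUk (Fin n) σ)) := by
    obtain ⟨m, hm⟩ : ∃ m, n = 2 * m := ⟨2 ^ (k - 1), by rw [hn, ← pow_succ']; congr 1; omega⟩
    have h1 : padicValNat 2 (q ^ 2 - 1) = padicValNat 2 (q + 1) + 1 := by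
      rw [show q ^ 2 - 1 = (q + 1) * (q - 1) by rw [← Nat.sq_sub_sq, one_pow],
        padicValNat.mul (by omega) (by omega)]
      obtain ⟨r, hr⟩ : ∃ r, q - 1 = 2 * (2 * r + 1) := ⟨(q - 3) / 4, by omega⟩
      rw [hr, padicValNat.mul two_ne_zero (by omega), padicValNat_self,
        padicValNat.eq_zero_of_not_dvd (n := 2 * r + 1) (by omega)]
    rw [SylTwoClassical.card_wr_two d W T, Nat.factorization_def _ Nat.prime_two]
    rw [card_GUk hσ hinv (Equiv.refl _), hm, val_GU hF hqodd, h1, Fintype.card_fin, padicValNat_factorial_mul, hAc]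
    ring
  exact pronormal_psu_of_ker hσ hinv (Equiv.refl _) (fun K hK => pronormal_of_setup_gen hS hcard
    (fun c _ => scalar_central (r := ((c : Fˣ) : F)) rfl) hK) hK

/-- The unitary semidihedral group. -/
theorem exists_sylow_gu2 (hF : Fintype.card F = q ^ 2) (hσ : ∀ x, σ x = x ^ q) (hne : σ ≠ RingHom.id F)
    (hinv : ∀ a, σ (σ a) = a) (h1 : q % 4 = 1) :
    ∃ W : Subgroup (GL (Fin 2) F), IsPGroup 2 W ∧ W ≤ GUk (Fin 2) σ ∧
    Nat.card W = 2 * 2 ^ padicValNat 2 (q ^ 2 - 1) ∧ (-1 : GL (Fin 2) F) ∈ W ∧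
    (∀ a ∈ W, a * a = 1 → (∀ w ∈ W, Commute a (w * a * w⁻¹)) → a = 1 ∨ a = -1) ∧
    (∃ u ∈ W, Matrix.GeneralLinearGroup.det u = 1 ∧ u * u ≠ 1) ∧
    (∀ g, Odd (orderOf g) → (∀ w ∈ W, g * w * g⁻¹ ∈ W) → g ∈ Subgroup.center (GL (Fin 2) F)) ∧
    (∀ g, (∀ w ∈ W, g * w = w * g) → g ∈ Subgroup.center (GL (Fin 2) F)) := by
  obtain ⟨W, hp, hpres, hcard, hm1, hinvol, ⟨u, hu, hud, hu2⟩, hodd, hcomm⟩ := GUTwo.exists_sylow hF h1
  obtain ⟨C, hC⟩ := exists_sqrt hne hinv (H := (!![0, 1; 1, 0] : Matrix (Fin 2) (Fin 2) F))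
    (by simp [Matrix.det_fin_two]) (by ext i j; fin_cases i <;> fin_cases j <;> simp [star'])
  set c := (MulAut.conj C : GL (Fin 2) F ≃* GL (Fin 2) F)
  have hcen : ∀ g, c.symm g ∈ Subgroup.center (GL (Fin 2) F) → g ∈ Subgroup.center (GL (Fin 2) F) := fun g hg => by
    have e : g = c.symm g := by
      conv_lhs => rw [← c.apply_symm_apply g]
      show C * c.symm g * C⁻¹ = _
      rw [Subgroup.mem_center_iff.1 hg C, mul_inv_cancel_right]
    rw [e]; exact hg
  refine ⟨W.map c.toMonoidHom, hp.map _, ?_, ?_, ⟨-1, hm1, by simp [c]⟩, ?_,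
    ⟨c u, ⟨u, hu, rfl⟩, ?_, fun h => hu2 (c.injective (by rw [map_mul, h, map_one]))⟩, ?_, ?_⟩
  · rintro _ ⟨w, hw, rfl⟩
    have hmap : (fun x : F => x ^ q) = σ := funext fun x => (hσ x).symm
    have h : star' σ w.1 * (star' σ C.1 * C.1) * w.1 = star' σ C.1 * C.1 := by
      rw [hC]
      have := hpres w hw
      rwa [hmap] at this
    rw [mem_GUk]
    show star' σ (C.1 * w.1 * (C⁻¹).1) * (C.1 * w.1 * (C⁻¹).1) = 1
    have h2 : star' σ (C⁻¹).1 * star' σ C.1 = 1 := by rw [← LBUnitary.star_mul', Units.mul_inv, star_one']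
    calc star' σ (C.1 * w.1 * (C⁻¹).1) * (C.1 * w.1 * (C⁻¹).1)
        = star' σ (C⁻¹).1 * (star' σ w.1 * (star' σ C.1 * C.1) * w.1) * (C⁻¹).1 := by
          simp only [LBUnitary.star_mul', Matrix.mul_assoc]
      _ = (star' σ (C⁻¹).1 * star' σ C.1) * (C.1 * (C⁻¹).1) := by rw [h]; simp only [Matrix.mul_assoc]
      _ = 1 := by rw [h2, Units.mul_inv, one_mul]
  · rw [Subgroup.card_map_of_injective c.injective]; exact hcard
  · rintro _ ⟨a, ha, rfl⟩ h2 hc
    rcases hinvol a ha (c.injective (by rw [map_mul, map_one]; exact h2)) (fun w hw => by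
      have := hc _ ⟨w, hw, rfl⟩
      refine c.injective ?_
      simpa only [map_mul, map_inv, MulEquiv.coe_toMonoidHom] using this.eq) with rfl | rfl
    · exact Or.inl (map_one c)
    · exact Or.inr (by simp [c])
  · show Matrix.GeneralLinearGroup.det (C * u * C⁻¹) = 1
    rw [map_mul, map_mul, map_inv, hud, mul_one, mul_inv_cancel]
  · intro g ho hg
    refine hcen g (hodd (c.symm g) (by rwa [show orderOf (c.symm g) = orderOf g from
      orderOf_injective c.symm.toMonoidHom c.symm.injective g]) fun w hw => ?_)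
    obtain ⟨x, hx, e⟩ := hg _ ⟨w, hw, rfl⟩
    have : x = c.symm g * w * (c.symm g)⁻¹ := c.injective (by
      rw [map_mul, map_mul, map_inv, c.apply_symm_apply]; exact e)
    exact this ▸ hx
  · intro g hg
    refine hcen g (hcomm (c.symm g) fun w hw => c.injective ?_)
    rw [map_mul, map_mul, c.apply_symm_apply]
    exact hg _ ⟨w, hw, rfl⟩

/-- The case q ≡ 1 (mod 4). -/
theorem pronormal_unitary_one (hF : Fintype.card F = q ^ 2) (hσ : ∀ x, σ x = x ^ q) (hne : σ ≠ RingHom.id F)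
    (hinv : ∀ a, σ (σ a) = a) (h1 : q % 4 = 1) {k : ℕ} (hk : 1 ≤ k)
    {K : Subgroup (Cfsg.PSU (2 ^ (k + 1)) F q)} (hK : Odd K.index) : Cfsg.IsPronormal K := by
  classical
  have : Fact (Nat.Prime 2) := ⟨Nat.prime_two⟩
  have hqodd : Odd q := Nat.odd_iff.2 (by omega)
  have hodd : Odd (Fintype.card F) := hF ▸ hqodd.pow
  set m := 2 ^ k with hmdef
  have hm2 : 2 ≤ m := Nat.le_self_pow (by omega) 2
  obtain ⟨W0, hWp, hWle, hWc, hz, hinvol, ⟨u, hu, hud, hu2⟩, hcent, hcomm⟩ :=
    exists_sylow_gu2 hF hσ hne hinv h1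
  obtain ⟨T⟩ : Nonempty (Sylow 2 (Equiv.Perm (Fin m))) := inferInstance
  have : Nonempty (Fin m) := ⟨⟨0, by omega⟩⟩
  obtain ⟨hTp, hTn, hTt⟩ := perm_sylow_facts k T
  set A₀ := GUk (Fin 2) σ
  set W : Subgroup A₀ := W0.subgroupOf A₀
  have hDmem : ∀ v : Fin m → GL (Fin 2) F, (blockData F m).D v ∈ GUk (Fin 2 × Fin m) σ ↔ ∀ i, v i ∈ A₀ := fun v => by
    rw [mem_GUk]
    show star' σ (Matrix.blockDiagonal fun l => (v l : Matrix (Fin 2) (Fin 2) F)) *
      Matrix.blockDiagonal (fun l => (v l : Matrix (Fin 2) (Fin 2) F)) = 1 ↔ _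
    rw [star_blockDiagonal, ← Matrix.blockDiagonal_mul, ← Matrix.blockDiagonal_one,
      Matrix.blockDiagonal_inj, funext_iff]
    exact forall_congr' fun i => Iff.rfl
  have hP : ∀ τ, (blockData F m).perm τ ∈ GUk (Fin 2 × Fin m) σ := fun τ =>
    perm_unitary σ (SylTwoClassical.blockPerm m τ)⁻¹
  let d := restrict (blockData F m) (GUk (Fin 2 × Fin m) σ) A₀ (fun v hv => (hDmem v).2 hv) hP
  have hzA : (-1 : GL (Fin 2) F) ∈ A₀ := hWle hz
  set z : A₀ := ⟨-1, hzA⟩ with hzdef
  have hcen : ∀ a : A₀, (a : GL (Fin 2) F) ∈ Subgroup.center (GL (Fin 2) F) → a ∈ Subgroup.center A₀ := fun a ha =>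
    Subgroup.mem_center_iff.2 fun b => Subtype.ext (Subgroup.mem_center_iff.1 ha _)
  have hS : Setup d (detU (Fin 2 × Fin m) σ) (Matrix.GeneralLinearGroup.det.comp A₀.subtype) W
      (T : Subgroup (Equiv.Perm (Fin m))) z :=
    { det_D := fun v => (SylTwoClassical.glData F m).dt_D fun i => (v i : GL (Fin 2) F)
      two := fun i => by
        haveI : Nontrivial (Fin m) := Fin.nontrivial_iff_two_le.2 hm2
        exact exists_ne i
      pW := hWp.comap_subtype
      zW := hz
      zc := hcen z (Subgroup.mem_center_iff.2 fun g => by simp [hzdef])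
      z2 := Subtype.ext (by simp [hzdef])
      invol := fun a ha h2 hc => by
        rcases hinvol (a : GL (Fin 2) F) ha (congrArg Subtype.val h2) (fun w hw =>
          congrArg Subtype.val (hc ⟨w, hWle hw⟩ hw).eq) with e | e
        · exact Or.inl (Subtype.ext e)
        · exact Or.inr (Subtype.ext e)
      move := fun a b hab => by
        refine ⟨Pi.mulSingle a ⟨u, hWle hu⟩, fun i => ?_, ?_, by simp [hab.symm], ?_⟩
        · simp only [Pi.mulSingle_apply]
          split_ifs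
          · exact hu
          · exact one_mem _
        · rw [Finset.prod_eq_single a (fun i _ hi => by simp [hi]) (by simp), Pi.mulSingle_eq_same]
          exact hud
        · rw [Pi.mulSingle_eq_same]
          exact fun h => hu2 (congrArg Subtype.val h)
      norm := restrict_norm (blockData F m) _ A₀ _ hP (z := z)
        (fun g hg => block_of_signs hodd g hg) (fun v hv => (hDmem v).1 hv)
      cent := fun a ho hw => hcen a (hcent _ (by rwa [Subgroup.orderOf_coe]) fun w hw' => hw ⟨w, hWle hw'⟩ hw')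
      pT := hTp
      nT := hTn
      tT := hTt
      lift := fun τ _ => by
        refine ⟨1, fun i => one_mem _, ?_⟩
        rw [MonoidHom.mem_ker, map_one, one_mul]
        exact (SylTwoClassical.glData F m).dt_perm τ }
  have hcard : Nat.card (wr d W (T : Subgroup (Equiv.Perm (Fin m)))) =
      2 ^ padicValNat 2 (Nat.card (GUk (Fin 2 × Fin m) σ)) := by
    have hW : Nat.card W = 2 * 2 ^ padicValNat 2 (q ^ 2 - 1) :=
      (Nat.card_congr (Subgroup.subgroupOfEquivOfLe hWle).toEquiv).trans hWc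
    have h2 : padicValNat 2 (q + 1) = 1 := by
      obtain ⟨r, hr⟩ : ∃ r, q + 1 = 2 * (2 * r + 1) := ⟨(q - 1) / 4, by omega⟩
      rw [hr, padicValNat.mul two_ne_zero (by omega), padicValNat_self,
        padicValNat.eq_zero_of_not_dvd (n := 2 * r + 1) (by omega)]
    rw [card_wr, hW, SylTwoClassical.card_sylow, Nat.card_perm, Nat.card_fin, Fintype.card_fin,
      card_GUk hσ hinv (finProdFinEquiv : Fin 2 × Fin m ≃ Fin (2 * m)), val_GU hF hqodd, h2,
      ← pow_succ', ← pow_mul, ← pow_add]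
    congr 1
    ring
  refine pronormal_psu_of_ker hσ hinv (finProdFinEquiv.trans (finCongr (pow_succ' 2 k).symm))
    (fun K hK => pronormal_of_setup_gen hS hcard (fun c hc => ?_) hK) hK
  have hc2 : (c : GL (Fin 2) F) ∈ Subgroup.center (GL (Fin 2) F) :=
    hcomm _ fun w hw => (congrArg Subtype.val (Subgroup.mem_center_iff.1 hc ⟨w, hWle hw⟩)).symm
  rw [Matrix.GeneralLinearGroup.center_eq_range_scalar, MonoidHom.mem_range] at hc2
  obtain ⟨r, hr⟩ := hc2
  refine scalar_central (r := (r : F)) ?_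
  ext ⟨a, i⟩ ⟨b, j⟩
  show (Matrix.blockDiagonal fun _ : Fin m => ((c : GL (Fin 2) F) : Matrix (Fin 2) (Fin 2) F)) (a, i) (b, j) = _
  rw [Matrix.blockDiagonal_apply, Matrix.diagonal_apply, ← hr]
  simp [Matrix.GeneralLinearGroup.scalar, Matrix.diagonal_apply, Prod.mk.injEq]
  split_ifs <;> simp_all

/-- Subgroups of odd index in PSU(2^w, q), q odd, w ≥ 2. -/
theorem pronormal_psu_odd (hF : Fintype.card F = q ^ 2) (hq : Odd q) {w : ℕ} (hw : 2 ≤ w)
    {K : Subgroup (Cfsg.PSU (2 ^ w) F q)} (hK : Odd K.index) : Cfsg.IsPronormal K := by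
  obtain ⟨σ, hσ, hne, hinv, -, -⟩ := HermStd.exists_sigma hF
  rcases (show q % 4 = 1 ∨ q % 4 = 3 by have := Nat.odd_iff.1 hq; omega) with h | h
  · obtain ⟨k, rfl⟩ : ∃ k, w = k + 1 := ⟨w - 1, by omega⟩
    exact pronormal_unitary_one hF hσ hne hinv h (by omega) hK
  · exact pronormal_unitary_three hF hσ hinv h hw hK

end Cfsg.Agent.OddPro
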