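/-
PSU(n, q), q even: subgroups of odd index are pronormal.
-/
import Cfsg.Agent.Lib.OddIndexPro.Basic
import Cfsg.Agent.Lib.OddIndexPro.BNOver
import Cfsg.Agent.Lib.Steinberg.FormTwist
import Cfsg.Agent.Lib.LinearBlock.UnitarySimilar
import Cfsg.Prelude.Def_LieClassical

set_option autoImplicit false

namespace Cfsg.Agent.OddPro

open Matrix Cfsg.Agent.SLPair Cfsg.Agent.LBUnitary

variable {F : Type*} [Field F] [Fintype F]

/-- The fixed points of a twist. -/
theorem pronormal_twist [CharP F 2] {n : ℕ} (T : Twist n F) {K : Subgroup (T.G ⧸ Subgroup.center T.G)}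
    (hK : Odd K.index) : Cfsg.IsPronormal K := by
  classical
  haveI : Fact (Nat.Prime 2) := ⟨Nat.prime_two⟩
  refine pronormal_quotient (Subgroup.center T.G) le_rfl (T.sylow 2) (fun H hH _ => ?_) hK
  set U : Subgroup T.G := (SLBlocks.uniU n F).subgroupOf T.G
  have hsplit : BTOver.Split T.pair U := by
    refine ⟨fun u hu => hu.1, fun b hb u hu => ?_, fun b hb => ?_⟩
    · exact SLBlocks.isUni_conj (A := SpecialLinearGroup.toGL (b : SLn n F)) hb hu
    · have hup : (b : SLn n F).1.IsUpperTriangular := hb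
      have hd : (b : SLn n F).1.det = ∏ i, (b : SLn n F).1 i i := Matrix.det_of_upperTriangular hup
      let t : SLn n F := ⟨Matrix.diagonal fun i => (b : SLn n F).1 i i, by
        rw [Matrix.det_diagonal, ← hd]; exact (b : SLn n F).2⟩
      have hmono : Mono 1 t.1 := fun a c h => by
        by_contra hne
        exact h (Matrix.diagonal_apply_ne _ (fun e => hne (by simpa using e)))
      have htup : t.1.IsUpperTriangular := Matrix.blockTriangular_diagonal _
      have hu : t⁻¹ * (b : SLn n F) ∈ SLBlocks.uniU n F := by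
        have htinv : (t⁻¹).1.IsUpperTriangular :=
          (Cfsg.upperTriangularGL n F).inv_mem (x := SpecialLinearGroup.toGL t) htup
        refine ⟨htinv.mul hup, fun i => ?_⟩
        have h1 : ((t⁻¹).1 * t.1) i i = (1 : Matrix (Fin n) (Fin n) F) i i :=
          congrFun (congrFun (congrArg Subtype.val (inv_mul_cancel t)) i) i
        rw [SLBlocks.upper_mul_diag htinv htup, Matrix.one_apply_eq] at h1
        show ((t⁻¹).1 * (b : SLn n F).1) i i = 1
        rw [SLBlocks.upper_mul_diag htinv hup]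
        have htii : t.1 i i = (b : SLn n F).1 i i := Matrix.diagonal_apply_eq _ i
        exact (congrArg (fun c => (t⁻¹).1 i i * c) htii.symm).trans h1
      have htf : T.τ t = t := T.torus_fixed (T.fixed _ b.2) hmono hu
      have hv : t⁻¹ * (b : SLn n F) ∈ T.G := T.memU _ hu (by rw [map_mul, map_inv, htf, T.fixed _ b.2])
      have htG : t ∈ T.G := by
        have := mul_mem b.2 (inv_mem hv)
        simpa using this
      have hw : (b : SLn n F) * t⁻¹ ∈ SLBlocks.uniU n F := by
        have := SLBlocks.isUni_conj (A := SpecialLinearGroup.toGL t) htup hu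
        rw [show (b : SLn n F) * t⁻¹ = t * (t⁻¹ * b) * t⁻¹ by group]
        exact this
      exact ⟨⟨_, mul_mem b.2 (inv_mem htG)⟩, hw, ⟨t, htG⟩, ⟨mono_one_upper hmono, ⟨1, hmono⟩⟩,
        Subtype.ext (inv_mul_cancel_right _ _).symm⟩
  have hT : ∀ a ∈ T.pair.B ⊓ T.pair.N, ∀ b ∈ T.pair.B ⊓ T.pair.N, a * b = b * a := by
    intro a ha b hb
    have hd : ∀ x ∈ T.pair.B ⊓ T.pair.N, (x : SLn n F).1 = Matrix.diagonal (fun i => (x : SLn n F).1 i i) := by
      intro x hx
      have h0 : Mono 1 (x : SLn n F).1 := mem_inf ⟨hx.1, hx.2⟩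
      ext i j
      rcases eq_or_ne i j with rfl | hij
      · rw [Matrix.diagonal_apply_eq]
      · rw [Matrix.diagonal_apply_ne _ hij]
        by_contra h
        exact hij (by simpa using h0 i j h)
    refine Subtype.ext (Subtype.ext ?_)
    show (a : SLn n F).1 * (b : SLn n F).1 = (b : SLn n F).1 * (a : SLn n F).1
    rw [hd a ha, hd b hb, Matrix.diagonal_mul_diagonal, Matrix.diagonal_mul_diagonal]
    congr 1
    funext i
    exact mul_comm _ _
  refine fun g hg => BNOver.borel_le_normalizer hsplit hT hH ?_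
  refine T.upper_of_normalizes (T.fixed _ g.2) fun u hu huf => ?_
  have h1 : g⁻¹ * (⟨u, T.memU u hu huf⟩ : T.G) * g ∈ U := by
    have := (Subgroup.mem_normalizer_iff.1 (inv_mem hg) (⟨u, T.memU u hu huf⟩ : T.G)).1 hu
    rwa [inv_inv] at this
  exact h1

/-- PSU(n, q) in characteristic two. -/
theorem pronormal_psu_even [CharP F 2] (n q : ℕ) (hF : Fintype.card F = q ^ 2)
    {K : Subgroup (Cfsg.PSU n F q)} (hK : Odd K.index) : Cfsg.IsPronormal K := by
  classical
  haveI : Fact (Nat.Prime 2) := ⟨Nat.prime_two⟩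
  obtain ⟨k, -, hk⟩ : ∃ k, k ≤ _ ∧ q = 2 ^ k := (Nat.dvd_prime_pow Nat.prime_two).1
    (show q ∣ 2 ^ _ from ((dvd_mul_right q q).trans (dvd_of_eq (sq q ▸ hF).symm)).trans
      (dvd_of_eq (FiniteField.card F 2).choose_spec.2))
  obtain ⟨σ, hσ⟩ : ∃ σ : F →+* F, ∀ x, σ x = x ^ q :=
    ⟨iterateFrobenius F 2 k, fun x => by rw [iterateFrobenius_def, hk]⟩
  have hinv : ∀ a, σ (σ a) = a := fun a => by
    rw [hσ, hσ, ← pow_mul, ← sq, ← hF, FiniteField.pow_card]
  have hq2 : 2 ≤ q := by
    rcases q with - | - | q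
    · have := Fintype.one_lt_card (α := F); simp [hF] at this
    · have := Fintype.one_lt_card (α := F); simp [hF] at this
    · omega
  obtain ⟨a₀, ha₀⟩ : ∃ a, σ a ≠ a := by
    by_contra hcon
    push Not at hcon
    have hsub : (Finset.univ : Finset F).card ≤ (Polynomial.X ^ q - Polynomial.X : Polynomial F).natDegree := by
      refine Polynomial.card_le_degree_of_subset_roots (fun x _ => ?_)
      rw [Polynomial.mem_roots (FiniteField.X_pow_card_sub_X_ne_zero F hq2)]
      simp [← hσ, hcon x]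
    rw [Finset.card_univ, hF, FiniteField.X_pow_card_sub_X_natDegree_eq F hq2] at hsub
    nlinarith [hsub]
  have hne : σ ≠ RingHom.id F := fun h => ha₀ (by rw [h]; rfl)
  obtain ⟨C, hC⟩ := exists_sqrt hne hinv (n := n) (H := antiJ (fun _ => (1 : F))) (by
    have h : antiJ (fun _ : Fin n => (1 : F)) = (1 : Matrix (Fin n) (Fin n) F).submatrix Fin.revPerm id := by
      ext a b
      simp [antiJ, Matrix.one_apply, eq_comm]
    rw [h, Matrix.det_permute, Matrix.det_one, mul_one]
    rcases Int.units_eq_one_or (Equiv.Perm.sign (Fin.revPerm : Equiv.Perm (Fin n))) with h | h <;> simp [h]) (by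
    ext a b
    simp only [star', antiJ, Matrix.transpose_apply, Matrix.map_apply, Matrix.of_apply, apply_ite σ, map_one,
      map_zero]
    refine ite_congr ?_ (fun _ => rfl) (fun _ => rfl)
    exact propext ⟨fun h => by rw [h, Fin.rev_rev], fun h => by rw [h, Fin.rev_rev]⟩)
  let T : Twist n F := formTwist (fun _ => (1 : F)) (fun _ => one_ne_zero) σ 1 (fun a => (one_mul 1).symm)
    (fun a => map_one σ) (fun a => ⟨a₀ - σ a₀, sub_ne_zero.2 (Ne.symm ha₀), by
      rw [map_sub, hinv]; simp⟩)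
  have hmem : ∀ g : Matrix.SpecialLinearGroup (Fin n) F,
      g ∈ T.G ↔ SLBlocks.cj C g ∈ Cfsg.SU n F q := fun g => by
    refine (mem_formTwist _ _ σ 1 _ hinv (fun a => map_one σ) _ g).trans ?_
    have hgu : SLBlocks.cj C g ∈ Cfsg.SU n F q ↔
        Matrix.SpecialLinearGroup.toGL (SLBlocks.cj C g) ∈ Cfsg.GU n F q := Iff.rfl
    rw [hgu, mem_GU hσ hinv]
    show _ ↔ star' σ (C.1 * g.1 * (C⁻¹).1) * (C.1 * g.1 * (C⁻¹).1) = 1
    rw [← hC]
    have h1 : star' σ (C⁻¹).1 * star' σ C.1 = 1 := by rw [← LBUnitary.star_mul', Units.mul_inv, star_one']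
    have h2 : star' σ C.1 * star' σ (C⁻¹).1 = 1 := by rw [← LBUnitary.star_mul', Units.inv_mul, star_one']
    constructor
    · intro h
      calc star' σ (C.1 * g.1 * (C⁻¹).1) * (C.1 * g.1 * (C⁻¹).1)
          = star' σ (C⁻¹).1 * (star' σ g.1 * (star' σ C.1 * C.1) * g.1) * (C⁻¹).1 := by
            simp only [LBUnitary.star_mul', Matrix.mul_assoc]
        _ = star' σ (C⁻¹).1 * (star' σ C.1 * C.1) * (C⁻¹).1 := by rw [show star' σ g.1 * (star' σ C.1 * C.1) * g.1 = _ from h]
        _ = (star' σ (C⁻¹).1 * star' σ C.1) * (C.1 * (C⁻¹).1) := by simp only [Matrix.mul_assoc]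
        _ = 1 := by rw [h1, Units.mul_inv, one_mul]
    · intro h
      show star' σ g.1 * (star' σ C.1 * C.1) * g.1 = star' σ C.1 * C.1
      calc star' σ g.1 * (star' σ C.1 * C.1) * g.1
          = (star' σ C.1 * star' σ (C⁻¹).1) * (star' σ g.1 * (star' σ C.1 * C.1) * g.1) * ((C⁻¹).1 * C.1) := by
            rw [h2, Units.inv_mul, one_mul, mul_one]
        _ = star' σ C.1 * (star' σ (C.1 * g.1 * (C⁻¹).1) * (C.1 * g.1 * (C⁻¹).1)) * C.1 := by
            simp only [LBUnitary.star_mul', Matrix.mul_assoc]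
        _ = star' σ C.1 * C.1 := by rw [h, mul_one]
  let e : T.G ≃* Cfsg.SU n F q :=
    { toFun := fun g => ⟨SLBlocks.cj C g, (hmem g).1 g.2⟩
      invFun := fun s => ⟨(SLBlocks.cj C).symm s, (hmem _).2 (by rw [MulEquiv.apply_symm_apply]; exact s.2)⟩
      left_inv := fun g => Subtype.ext ((SLBlocks.cj C).symm_apply_apply _)
      right_inv := fun s => Subtype.ext ((SLBlocks.cj C).apply_symm_apply _)
      map_mul' := fun g h => Subtype.ext (map_mul (SLBlocks.cj C) _ _) }
  exact pronormal_centerQuot_equiv e (fun _ => pronormal_twist T) hK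

end Cfsg.Agent.OddPro
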